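import Cfsg.Agent.Lib.FixedSpace.Generation
import Cfsg.Agent.Lib.Solvable.MinNormal

/-!
# A moved normal `r`-subgroup is covered by two conjugates
-/

set_option autoImplicit false

namespace CfsgLib.FixedSpace

open Subgroup
open scoped commutatorElement

universe u

variable {X : Type u} [Group X] [Finite X]

/-- In a nilpotent subgroup, what supplements the commutator subgroup is everything. -/
theorem le_of_sup_commutator {r : ℕ} [Fact r.Prime] {R L : Subgroup X} (hR : IsPGroup r R)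
    (hL : L ≤ R) (h : R ≤ L ⊔ ⁅R, R⁆) : R ≤ L := by
  have h1 : L.subgroupOf R ⊔ frattini R = ⊤ := by
    rw [eq_top_iff]
    refine le_trans ?_ (sup_le_sup_left (CfsgLib.Transfer.commutator_le_frattini_pgroup hR) _)
    rw [← map_le_map_iff_of_injective R.subtype_injective, Subgroup.map_sup, subgroupOf_map_subtype,
      inf_eq_left.2 hL, map_subtype_commutator, ← MonoidHom.range_eq_map, Subgroup.range_subtype]
    exact h
  exact subgroupOf_eq_top.1 (frattini_nongenerating h1)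

/-- If `A = ⟨x, x^a⟩` and `R` is a normal `r`-subgroup, minimal among those moved by the normal
`q`-subgroup `Q` of `A`, then `AR = ⟨x, x^b⟩` for some `b`. -/
theorem exists_generating_conj [Group.IsSolvable X] {p r q : ℕ} [hp : Fact p.Prime]
    [hr : Fact r.Prime] [hq : Fact q.Prime] (hp3 : 3 < p) (hqr : q ≠ r) {R : Subgroup X} [hRn : R.Normal]
    (hR : IsPGroup r R) {A Q : Subgroup X} (hQA : Q ≤ A)
    (hQn : ∀ g ∈ A, ∀ u ∈ Q, g * u * g⁻¹ ∈ Q) (hQ : IsPGroup q Q) (htop : A ⊔ R = ⊤)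
    (hmov : ¬ R ≤ centralizer (Q : Set X))
    (hmin : ∀ S : Subgroup X, S.Normal → S ≤ R → S ≠ R → S ≤ centralizer (Q : Set X)) {x a : X}
    (hx : x ^ p = 1) (ha : a ∈ A) (hA : A = zpowers x ⊔ zpowers (a * x * a⁻¹)) :
    ∃ b : X, zpowers x ⊔ zpowers (b * x * b⁻¹) = ⊤ := by
  classical
  have hnormal : ∀ B S : Subgroup X, B ⊔ R = ⊤ → B ≤ normalizer (S : Set X) → ⁅R, R⁆ ≤ S → S ≤ R →
      S.Normal := by
    intro B S hBR hBS hRS hSR
    rw [← normalizer_eq_top_iff, eq_top_iff, ← hBR]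
    refine sup_le hBS fun g hg => HallHigman.mem_normalizer_of_conj_mem fun s hs => ?_
    rw [show g * s * g⁻¹ = ⁅g, s⁆ * s by rw [commutatorElement_def]; group]
    exact mul_mem (hRS (commutator_mem_commutator hg (hSR hs))) hs
  have hRne : R ≠ ⊥ := fun e => hmov (e ▸ bot_le)
  have hlt : ⁅R, R⁆ < R := lt_of_le_of_ne (commutator_le_self R) fun e =>
    hRne (eq_bot_iff.2 (le_of_sup_commutator hR bot_le (by rw [e]; exact le_sup_right)))
  obtain ⟨S₀, ⟨hS₀n, hRS₀, hS₀R⟩, hS₀max⟩ := wellFounded_gt.has_min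
    {S : Subgroup X | S.Normal ∧ ⁅R, R⁆ ≤ S ∧ S < R} ⟨_, inferInstance, le_rfl, hlt⟩
  have hmax : ∀ S : Subgroup X, S.Normal → S₀ ≤ S → S ≤ R → S = S₀ ∨ S = R := by
    intro S hS h1 h2
    by_contra hne
    push Not at hne
    exact hS₀max S ⟨hS, hRS₀.trans h1, lt_of_le_of_ne h2 hne.2⟩ (lt_of_le_of_ne h1 hne.1.symm)
  have hfull : ∀ B : Subgroup X, B ⊔ R = ⊤ → ¬ B ⊓ R ≤ S₀ → B = ⊤ := by
    intro B hBR hBS
    have hBnorm : ∀ T : Subgroup X, T.Normal → B ≤ normalizer ((B ⊓ R ⊔ T : Subgroup X) : Set X) := by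
      intro T hT
      refine fun g hg => HallHigman.mem_normalizer_of_conj_mem fun y hy => ?_
      have hle : (B ⊓ R ⊔ T).map (MulAut.conj g).toMonoidHom ≤ B ⊓ R ⊔ T := by
        rw [Subgroup.map_sup]
        refine sup_le_sup ?_ (by rintro _ ⟨z, hz, rfl⟩; exact hT.conj_mem z hz g)
        rintro _ ⟨z, hz, rfl⟩
        exact Subgroup.mem_inf.2 ⟨mul_mem (mul_mem hg hz.1) (inv_mem hg), hRn.conj_mem z hz.2 g⟩
      exact hle ⟨y, hy, rfl⟩
    have hn1 := hnormal B _ hBR (hBnorm S₀ hS₀n) (hRS₀.trans le_sup_right) (sup_le inf_le_right hS₀R.le)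
    have e1 := (hmax _ hn1 le_sup_right (sup_le inf_le_right hS₀R.le)).resolve_left fun e =>
      hBS (le_sup_left.trans e.le)
    have hn2 := hnormal B _ hBR (hBnorm ⁅R, R⁆ inferInstance) le_sup_right
      (sup_le inf_le_right hlt.le)
    have e2 : B ⊓ R ⊔ ⁅R, R⁆ = R := by
      by_contra hne
      have h1 := hmin _ hn2 (sup_le inf_le_right hlt.le) hne
      exact hmov (e1 ▸ sup_le (le_sup_left.trans h1) (hmin S₀ hS₀n hS₀R.le hS₀R.ne))
    have hRB : R ≤ B := (le_of_sup_commutator hR inf_le_right e2.ge).trans inf_le_left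
    rwa [sup_eq_left.2 hRB] at hBR
  by_cases hAS : A ⊓ R ≤ S₀
  swap
  · exact ⟨a, hA ▸ hfull A htop hAS⟩
  -- pass to `X / S₀`
  set π := QuotientGroup.mk' S₀ with hπ
  have hπs : Function.Surjective π := QuotientGroup.mk'_surjective S₀
  have hmemR : ∀ g ∈ R, ∀ h : X, π h = π g → h ∈ R := by
    intro g hg h e
    have h1 : g⁻¹ * h ∈ S₀ := QuotientGroup.eq.1 e.symm
    rw [show h = g * (g⁻¹ * h) from (mul_inv_cancel_left _ _).symm]
    exact mul_mem hg (hS₀R.le h1)
  have hMn : (R.map π).Normal := hRn.map π hπs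
  have hMc : ∀ a ∈ R.map π, ∀ b ∈ R.map π, a * b = b * a := by
    rintro _ ⟨g, hg, rfl⟩ _ ⟨h, hh, rfl⟩
    refine commutatorElement_eq_one_iff_mul_comm.1 ?_
    rw [← map_commutatorElement]
    exact (QuotientGroup.eq_one_iff _).2 (hRS₀ (commutator_mem_commutator hg hh))
  have hMmin : ∀ K : Subgroup (X ⧸ S₀), K ≤ R.map π → A.map π ≤ normalizer (K : Set (X ⧸ S₀)) →
      K = ⊥ ∨ K = R.map π := by
    intro K hK hAK
    have hle : K.comap π ≤ R := fun g hg => by
      obtain ⟨h, hh, e⟩ := hK hg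
      exact hmemR h hh g e.symm
    have hS₀K : S₀ ≤ K.comap π := by
      intro g hg
      rw [mem_comap, show π g = 1 from (QuotientGroup.eq_one_iff g).2 hg]
      exact one_mem K
    have hn := hnormal A _ htop (fun g hg => HallHigman.mem_normalizer_of_conj_mem fun y hy => by
        rw [mem_comap, map_mul, map_mul, map_inv]
        exact HallHigman.conj_mem_of_mem_normalizer (hAK (mem_map_of_mem π hg)) hy)
      (hRS₀.trans hS₀K) hle
    rw [← Subgroup.map_comap_eq_self_of_surjective hπs K]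
    rcases hmax _ hn hS₀K hle with e | e
    · left; rw [e, QuotientGroup.map_mk'_self]
    · right; rw [e]
  have hMne : R.map π ≠ ⊥ := fun e => hS₀R.not_ge fun g hg =>
    (QuotientGroup.eq_one_iff g).1 (mem_bot.1 (e ▸ mem_map_of_mem π hg : π g ∈ (⊥ : Subgroup _)))
  have hMe : ∀ m ∈ R.map π, m ^ r = 1 := by
    have : IsMulCommutative (R.map π) := ⟨⟨fun a b => Subtype.ext (hMc a a.2 b b.2)⟩⟩
    have := hMn
    obtain ⟨r', hr', he⟩ := CfsgLib.Solvable.exists_prime_pow_eq_one_of_minimal_normal hMne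
      fun K hK hle => hMmin K hle (by rw [normalizer_eq_top]; exact le_top)
    obtain ⟨m, hm, hm1⟩ := (bot_or_exists_ne_one (R.map π)).resolve_left hMne
    obtain ⟨k, hk⟩ := hR.map π ⟨m, hm⟩
    have hrr : r' = r := by
      by_contra hne
      exact hm1 (orderOf_eq_one_iff.1 (Nat.eq_one_of_dvd_coprimes
        (((Nat.coprime_primes hr' hr.out).2 hne).pow_right k) (orderOf_dvd_of_pow_eq_one (he m hm))
        (orderOf_dvd_of_pow_eq_one (congrArg Subtype.val hk))))
    exact hrr ▸ he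
  have hcop : ∀ {Y : Type u} [Group Y] [Finite Y] {T U : Subgroup Y}, IsPGroup q T → IsPGroup r U →
      (Nat.card T).Coprime (Nat.card U) := by
    intro Y _ _ T U hT hU
    obtain ⟨i, hi⟩ := IsPGroup.iff_card.1 hT
    obtain ⟨j, hj⟩ := IsPGroup.iff_card.1 hU
    rw [hi, hj]
    exact ((((Nat.coprime_primes hq.out hr.out).2 hqr).pow_left i).pow_right j)
  have hdisj : R.map π ⊓ A.map π = ⊥ := by
    rw [eq_bot_iff]
    rintro _ ⟨⟨g, hg, rfl⟩, ⟨h, hh, e⟩⟩
    rw [mem_bot, ← e]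
    exact (QuotientGroup.eq_one_iff h).2 (hAS ⟨hh, hmemR g hg h e⟩)
  have hmov' : ¬ R.map π ≤ centralizer (Q.map π : Set (X ⧸ S₀)) := by
    intro hc
    have h1 : ⁅R, Q⁆ ≤ S₀ := commutator_le.2 fun g hg u hu => by
      rw [← QuotientGroup.eq_one_iff]
      show π ⁅g, u⁆ = 1
      rw [map_commutatorElement, commutatorElement_eq_one_iff_mul_comm]
      exact (mem_centralizer_iff.1 (hc (mem_map_of_mem π hg)) _ (mem_map_of_mem π hu)).symm
    have h2 : ⁅⁅R, Q⁆, Q⁆ = ⊥ := commutator_eq_bot_iff_le_centralizer.2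
      (h1.trans (hmin S₀ hS₀n hS₀R.le hS₀R.ne))
    exact hmov (commutator_eq_bot_iff_le_centralizer.1
      (Coprime.commutator_eq_bot_of_commutator_commutator (by rw [normalizer_eq_top]; exact le_top)
        (hcop hQ hR) (Or.inr inferInstance) h2))
  have hgenmap : A.map π = zpowers (π x) ⊔ zpowers (π a * π x * (π a)⁻¹) := by
    rw [hA, Subgroup.map_sup, MonoidHom.map_zpowers, MonoidHom.map_zpowers, map_mul, map_mul, map_inv]
  have : Group.IsSolvable (A.map π) := inferInstance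
  obtain ⟨_, ⟨s, hs, rfl⟩, hs'⟩ := exists_not_complement hp3 (M := R.map π) hMc hMe hdisj
    (Subgroup.map_mono hQA) (fun g hg u hu => by
      obtain ⟨g, hg, rfl⟩ := hg
      obtain ⟨u, hu, rfl⟩ := hu
      exact ⟨g * u * g⁻¹, hQn g hg u hu, by simp⟩)
    (hcop (hQ.map π) (hR.map π)) hmov' hMmin (x := π x) (a := π a) (by rw [← map_pow, hx, map_one])
    (mem_map_of_mem π ha) hgenmap
  refine ⟨s * a, hfull _ ?_ ?_⟩
  · rw [eq_top_iff, ← htop, hA]
    refine sup_le (sup_le (zpowers_le.2 (mem_sup_left (mem_sup_left (mem_zpowers x)))) (zpowers_le.2 ?_))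
      le_sup_right
    rw [show a * x * a⁻¹ = s⁻¹ * (s * a * x * (s * a)⁻¹) * s by group]
    exact mul_mem (mul_mem (mem_sup_right (inv_mem hs)) (mem_sup_left (mem_sup_right (mem_zpowers _))))
      (mem_sup_right hs)
  · intro hle
    refine hs' (eq_bot_iff.2 ?_)
    rw [show zpowers (π x) ⊔ zpowers (π s * π a * π x * (π s * π a)⁻¹) =
      (zpowers x ⊔ zpowers (s * a * x * (s * a)⁻¹)).map π by
        rw [Subgroup.map_sup, MonoidHom.map_zpowers, MonoidHom.map_zpowers]; simp]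
    rintro _ ⟨⟨g, hg, rfl⟩, ⟨h, hh, e⟩⟩
    rw [mem_bot, ← e]
    exact (QuotientGroup.eq_one_iff h).2 (hle ⟨hh, hmemR g hg h e⟩)

end CfsgLib.FixedSpace
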