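import Cfsg.Agent.Lib.FixedSpace.Factors
import Cfsg.Agent.Lib.FixedFree.CriticalPart
import Mathlib.LinearAlgebra.Dimension.OrzechProperty
import Mathlib.Tactic.NormNum.Prime

/-!
# The fixed space in the critical case

On an irreducible representation the endomorphisms are spanned by a group modulo its centre, so
the centraliser of `x` among them is bounded by the orbits of `x` there, while it contains the
square of the fixed space and the identity.
-/

set_option autoImplicit false

namespace CfsgLib.FixedSpace

open Module CfsgLib.HallHigman CfsgLib.FixedFree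

universe u v w

variable {K : Type u} [Field K] {V : Type v} [AddCommGroup V] [Module K V] [FiniteDimensional K V]

/-- The endomorphisms commuting with an invertible `f` contain the square of its fixed space. -/
theorem sq_fixed_succ_le (f g : Module.End K V) (hfg : f * g = 1) (hf : f ≠ 1) :
    finrank K (LinearMap.ker (f - 1)) * finrank K (LinearMap.ker (f - 1)) + 1 ≤
      finrank K (LinearMap.ker (LinearMap.mulLeftRight K (f, g) - 1)) := by
  set C := LinearMap.ker (f - 1) with hC
  set R := LinearMap.range (f - 1) with hR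
  have hgf : g * f = 1 := mul_eq_one_comm.1 hfg
  let L : ((V ⧸ R) →ₗ[K] C) × K →ₗ[K] Module.End K V :=
    { toFun := fun a => C.subtype ∘ₗ a.1 ∘ₗ R.mkQ + a.2 • 1
      map_add' := fun a b => by
        ext v
        simp [add_smul]
        abel
      map_smul' := fun c a => by
        ext v
        simp [mul_smul, smul_add] }
  have hrange : LinearMap.range L ≤ LinearMap.ker (LinearMap.mulLeftRight K (f, g) - 1) := by
    rintro _ ⟨⟨a, c⟩, rfl⟩
    rw [LinearMap.mem_ker, LinearMap.sub_apply, Module.End.one_apply, sub_eq_zero,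
      LinearMap.mulLeftRight_apply]
    have hcomm : f * L (a, c) = L (a, c) * f := by
      ext v
      show f ((a (R.mkQ v) : C) + c • v) = (a (R.mkQ (f v)) : C) + c • f v
      have h1 : f (a (R.mkQ v) : C) = (a (R.mkQ v) : C) := by
        have := LinearMap.mem_ker.1 (a (R.mkQ v)).2
        rwa [LinearMap.sub_apply, Module.End.one_apply, sub_eq_zero] at this
      have h2 : R.mkQ (f v) = R.mkQ v :=
        (Submodule.Quotient.eq R).2 ⟨v, rfl⟩
      rw [map_add, map_smul, h1, h2]
    rw [hcomm, mul_assoc, hfg, mul_one]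
  have hinj : Function.Injective L := by
    refine (injective_iff_map_eq_zero L).2 fun ⟨a, c⟩ h => ?_
    have h' : ∀ v, ((a (R.mkQ v) : C) : V) + c • v = 0 := fun v => LinearMap.congr_fun h v
    have hc : c = 0 := by
      have hne : f - 1 ≠ 0 := sub_ne_zero.2 hf
      obtain ⟨v, hv⟩ : ∃ v, (f - 1) v ≠ 0 := by
        by_contra hcon
        push Not at hcon
        exact hne (LinearMap.ext hcon)
      have h1 := h' ((f - 1) v)
      rw [show R.mkQ ((f - 1) v) = 0 from (Submodule.Quotient.mk_eq_zero R).2 ⟨v, rfl⟩, map_zero,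
        ZeroMemClass.coe_zero, zero_add] at h1
      exact (smul_eq_zero.1 h1).resolve_right hv
    refine Prod.ext (Submodule.linearMap_qext R (LinearMap.ext fun v => Subtype.ext ?_)) hc
    have := h' v
    rw [hc, zero_smul, add_zero] at this
    simpa using this
  have h1 := (LinearMap.finrank_range_of_inj hinj).symm.trans_le (Submodule.finrank_mono hrange)
  rw [Module.finrank_prod, Module.finrank_linearMap, Module.finrank_self] at h1
  have h2 := R.finrank_quotient_add_finrank
  have h3 := LinearMap.finrank_range_add_finrank_ker (f - 1)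
  rw [← hC, ← hR] at h3
  rw [show finrank K (V ⧸ R) = finrank K C by omega] at h1
  exact h1

variable [IsAlgClosed K] {T : Type w} [Group T] [Finite T]

/-- The irreducible critical case. -/
theorem two_mul_fixed_lt_of_critical [Nontrivial V] {p q : ℕ} [hp : Fact p.Prime]
    (hp3 : 3 < p) (σ : Representation K T V) {S : Subgroup T} [hSn : S.Normal]
    (hS : ScalarQ σ S q) {x : T} (hx : x ^ p = 1) (htop : S ⊔ Subgroup.zpowers x = ⊤)
    (hirr : ∀ W : Submodule K V, (∀ t, ∀ w ∈ W, σ t w ∈ W) → W = ⊥ ∨ W = ⊤)
    {X : Type*} [Finite X] (mk : S → X) (hsurj : Function.Surjective mk)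
    (hmk : ∀ s t, mk s = mk t → s⁻¹ * t ∈ Subgroup.center S)
    (hcard : Nat.card X = Nat.card (S ⧸ Subgroup.center S)) (π : X → X) (hper : π^[p] = id)
    (hπ : ∀ s, π (mk s) = mk (MulAut.conjNormal x s))
    (hcount : 16 * Nat.card {c // π c = c} ≤ Nat.card X) :
    2 * finrank K (LinearMap.ker (σ x - 1)) < finrank K V := by
  classical
  let θ := QuotientGroup.mk' σ.ker
  let σ' : Representation K (T ⧸ σ.ker) V := QuotientGroup.lift σ.ker σ le_rfl
  have hσ' : ∀ t, σ' (θ t) = σ t := fun t => QuotientGroup.lift_mk' _ _ t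
  have hinj : Function.Injective σ' := by
    intro a b hab
    obtain ⟨a, rfl⟩ := QuotientGroup.mk'_surjective σ.ker a
    obtain ⟨b, rfl⟩ := QuotientGroup.mk'_surjective σ.ker b
    rw [hσ', hσ'] at hab
    exact QuotientGroup.eq.2 (MonoidHom.mem_ker.2 (by
      rw [map_mul, ← hab, ← map_mul, inv_mul_cancel, map_one]))
  have hιinj : Function.Injective (θ.comp S.subtype) := (injective_iff_map_eq_one _).2 fun s hs =>
    hS.faithful s (by
      have e : θ (s : T) = 1 := hs
      rw [← hσ', e, map_one])
  let e : S ≃* (θ.comp S.subtype).range := MonoidHom.ofInjective hιinj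
  have he : ∀ s : S, σ' (e s : T ⧸ σ.ker) = σ s := fun s => hσ' _
  have hSQ : ScalarQ σ' (θ.comp S.subtype).range q := hS.transfer e (fun s c hc => by rw [he, hc])
    fun s hs => hS.faithful s (by rw [← he, hs])
  have hcrit : Critical σ' (θ.comp S.subtype).range q :=
    ⟨hinj, hSQ.isPGroup, hSQ.scalar, fun a b => by
      have := hSQ.classTwo a b
      rwa [commutatorElement_def] at this, hSQ.nonabelian⟩
  -- the endomorphisms are spanned by the group
  have hspan : repSpan σ' (θ.comp S.subtype).range = ⊤ := by
    have h1 : (1 : Module.End K V) ∈ repSpan σ' (θ.comp S.subtype).range := by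
      simpa using hcrit.rep_mem 1
    have htop' : (repSpan σ' (θ.comp S.subtype).range).toSubalgebra h1
        (fun _ _ => hcrit.mul_mem) = ⊤ := by
      refine eq_top_of_no_invariant _ fun U hU => ?_
      by_cases hUb : U = ⊥
      · exact Or.inl hUb
      refine Or.inr (hcrit.irreducible (x := θ x) (P := p) ?_ hp.out.pos
        (by rw [← map_pow, hx, map_one]) ?_ (fun g hg w hw => hU _ (hcrit.rep_mem ⟨g, hg⟩) w hw) hUb)
      · rintro _ ⟨s, rfl⟩
        exact ⟨MulAut.conjNormal x s, by simp⟩
      · intro W hWS hWx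
        refine hirr W fun t => invariant_of_closure σ S x W ?_ ?_ t (htop ▸ Subgroup.mem_top t)
        · intro s hs w hw
          rw [← hσ']
          exact hWS _ ⟨⟨s, hs⟩, rfl⟩ w hw
        · intro w hw
          rw [← hσ']
          exact hWx w hw
    refine eq_top_iff.2 fun f _ => ?_
    have hf : f ∈ (repSpan σ' (θ.comp S.subtype).range).toSubalgebra h1
      (fun _ _ => hcrit.mul_mem) := htop' ▸ Algebra.mem_top
    exact hf
  let sec : X → S := Function.surjInv hsurj
  have hsec : ∀ c, mk (sec c) = c := Function.surjInv_eq hsurj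
  let b : X → Module.End K V := fun c => σ (sec c : T)
  have hscal : ∀ s : S, ∃ c : K, σ (s : T) = c • b (mk s) := by
    intro s
    obtain ⟨c, hc⟩ := hS.scalar _ (hmk (sec (mk s)) s (hsec _))
    refine ⟨c, ?_⟩
    show σ (s : T) = c • σ (sec (mk s) : T)
    conv_lhs => rw [show s = sec (mk s) * ((sec (mk s))⁻¹ * s) from (mul_inv_cancel_left _ _).symm]
    rw [Subgroup.coe_mul, map_mul, hc, mul_smul_comm, mul_one]
  have hb : ⊤ ≤ Submodule.span K (Set.range b) := by
    rw [← hspan]
    refine Submodule.span_le.2 ?_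
    rintro _ ⟨u, rfl⟩
    obtain ⟨s, hs⟩ := (u.out : (θ.comp S.subtype).range).2
    obtain ⟨c, hc⟩ := hscal s
    have e1 : σ' ((u.out : (θ.comp S.subtype).range) : T ⧸ σ.ker) = σ (s : T) := by
      rw [← hs]; exact hσ' _
    show σ' _ ∈ _
    rw [e1, hc]
    exact Submodule.smul_mem _ _ (Submodule.subset_span ⟨_, rfl⟩)
  have : Fintype X := Fintype.ofFinite X
  have hXd : Fintype.card X = finrank K (Module.End K V) := by
    rw [← Nat.card_eq_fintype_card, hcard, card_center_quotient_congr e, ← hcrit.finrank_repSpan,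
      hspan, finrank_top]
  let B := basisOfTopLeSpanOfCardEqFinrank b hb hXd
  have hB : ∀ c, B c = b c := congrFun (coe_basisOfTopLeSpanOfCardEqFinrank b hb hXd)
  -- conjugation by `x` is monomial
  have hconj : ∀ c, ∃ a : K, σ x * b c * σ x⁻¹ = a • b (π c) := by
    intro c
    obtain ⟨a, ha⟩ := hscal (MulAut.conjNormal x (sec c))
    refine ⟨a, ?_⟩
    rw [← hπ, hsec] at ha
    rw [← ha, MulAut.conjNormal_apply, map_mul, map_mul]
  choose a ha using hconj
  have hπinj : Function.Injective π := fun c d h => by
    have h1 := congrArg π^[p - 1] h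
    rwa [← Function.iterate_succ_apply, ← Function.iterate_succ_apply, Nat.succ_eq_add_one,
      Nat.sub_add_cancel hp.out.one_le, hper] at h1
  have hbound := mul_finrank_fixed_le hper B.equivFun.symm
    (LinearMap.mulLeftRight K (σ x, σ x⁻¹)) (fun c => a c • (1 : Module.End K K)) fun F c => by
      rw [LinearEquiv.symm_symm, B.equivFun_symm_apply, map_sum]
      simp only [map_smul, LinearMap.mulLeftRight_apply, hB, ha]
      rw [map_sum, Finset.sum_apply]
      simp only [map_smul, Pi.smul_apply, ← hB, B.equivFun_self, smul_eq_mul, hπinj.eq_iff,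
        mul_ite, mul_one, mul_zero, Finset.sum_ite_eq', Finset.mem_univ, if_true,
        LinearMap.smul_apply, Module.End.one_apply]
      ring
  rw [Module.finrank_self, mul_one, mul_one] at hbound
  have hN : Nat.card X = finrank K V * finrank K V := by
    rw [Nat.card_eq_fintype_card, hXd, Module.finrank_linearMap]
  have hfg : σ x * σ x⁻¹ = 1 := by rw [← map_mul, mul_inv_cancel, map_one]
  have hne : σ x ≠ 1 := fun e1 => by
    have e2 : σ x⁻¹ = 1 := by
      rw [e1, one_mul] at hfg
      exact hfg
    have hall : LinearMap.ker (LinearMap.mulLeftRight K (σ x, σ x⁻¹) - 1) = ⊤ := eq_top_iff.2 fun f _ => by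
      rw [LinearMap.mem_ker, LinearMap.sub_apply, Module.End.one_apply, LinearMap.mulLeftRight_apply, e1, e2,
        one_mul, mul_one, sub_self]
    rw [hall, finrank_top, Module.finrank_linearMap, ← hN] at hbound
    have hpos : 0 < Nat.card X := hN ▸ Nat.mul_pos finrank_pos finrank_pos
    nlinarith
  have hsq := sq_fixed_succ_le (σ x) (σ x⁻¹) hfg hne
  rw [hN] at hbound hcount
  set C := finrank K (LinearMap.ker (σ x - 1))
  set f := Nat.card {c // π c = c}
  set d := finrank K V
  have hp5 : 5 ≤ p := by
    have hp4 : p ≠ 4 := fun e => by have := hp.out; subst e; norm_num at this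
    omega
  by_contra hcon
  push Not at hcon
  obtain ⟨p', rfl⟩ : ∃ p', p = p' + 5 := ⟨p - 5, by omega⟩
  have h1 : p' * (16 * f) ≤ p' * (d * d) := Nat.mul_le_mul_left p' hcount
  have h2 : (p' + 5) * (C * C + 1) ≤ (p' + 5) * _ := Nat.mul_le_mul_left _ hsq
  have h3 : (p' + 5) * (d * d) ≤ (p' + 5) * (2 * C * (2 * C)) :=
    Nat.mul_le_mul_left _ (Nat.mul_le_mul hcon hcon)
  nlinarith

end CfsgLib.FixedSpace
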