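import Cfsg.Agent.Lib.FixedSpace.Index
import Cfsg.Agent.Lib.FixedFree.CriticalPart
import Cfsg.Agent.Lib.Solvable.MinNormal
import Cfsg.Agent.Lib.Solvable.Nilpotent
import Cfsg.Agent.Lib.Solvable.PCore
import Cfsg.Agent.Lib.PLength.ExponentTwo

/-!
# A minimal noncentral normal subgroup, all abelian normal subgroups being central
-/

set_option autoImplicit false
set_option linter.unusedSectionVars false

namespace CfsgLib.FixedSpace

open Subgroup CfsgLib.FixedFree
open scoped commutatorElement

universe u v w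

variable {G : Type w} [Group G] [Finite G]

/-- A group acting irreducibly on an abelian `q`-group has no `q`-core modulo the centraliser. -/
theorem pCore_quotient_centralizer_eq_bot {q : ℕ} [Fact q.Prime] (M : Subgroup G) [M.Normal]
    (hMq : IsPGroup q M) (hM1 : M ≠ ⊥)
    (hmin : ∀ K : Subgroup G, K.Normal → K ≤ M → K = ⊥ ∨ K = M) :
    Cfsg.pCore q (G ⧸ centralizer (M : Set G)) = ⊥ := by
  classical
  set C := centralizer (M : Set G)
  let φ : G ⧸ C →* MulAut M := QuotientGroup.lift C (MulAut.conjNormal (H := M)) fun c hc => by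
    refine MonoidHom.mem_ker.2 (MulEquiv.ext fun m => Subtype.ext ?_)
    rw [MulAut.conjNormal_apply, MulAut.one_apply, ← mem_centralizer_iff.1 hc m m.2,
      mul_inv_cancel_right]
  have hφ : ∀ g : G, ∀ m : M, (φ (g : G ⧸ C) m : G) = g * m * g⁻¹ := fun g m =>
    MulAut.conjNormal_apply g m
  have hK := CfsgLib.Solvable.pCore_isPGroup (G := G ⧸ C) q
  have := CfsgLib.Solvable.pCore_normal q (G ⧸ C)
  set K := Cfsg.pCore q (G ⧸ C)
  let f : K →* MulAut M := φ.comp K.subtype
  let _ : MulAction K M := MulAction.compHom M f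
  let F : Subgroup G := K.comap (QuotientGroup.mk' C)
  let W : Subgroup G := M ⊓ centralizer (F : Set G)
  have hWn : W.Normal := by
    have : (centralizer (F : Set G)).Normal := Subgroup.normal_centralizer
    exact Subgroup.normal_inf_normal _ _
  have hW1 : W ≠ ⊥ := by
    have : Nontrivial M := (Subgroup.nontrivial_iff_ne_bot M).2 hM1
    obtain ⟨n, hn, hcard⟩ := hMq.nontrivial_iff_card.1 this
    have hdvd : q ∣ Nat.card M := by rw [hcard]; exact dvd_pow_self q hn.ne'
    have h1 : (1 : M) ∈ MulAction.fixedPoints K M := fun g => map_one (f g)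
    obtain ⟨b, hb, hb1⟩ := hK.exists_fixed_point_of_prime_dvd_card_of_fixed_point M hdvd h1
    intro hW
    apply hb1
    have hbW : (b : G) ∈ W := ⟨b.2, mem_centralizer_iff.2 fun g hg => by
      have := congrArg Subtype.val (hb ⟨(g : G ⧸ C), hg⟩)
      change (φ (g : G ⧸ C) b : G) = b at this
      rw [hφ] at this
      exact mul_inv_eq_iff_eq_mul.1 this⟩
    rw [hW, mem_bot] at hbW
    exact Subtype.ext hbW.symm
  have hWM : W = M := (hmin W hWn inf_le_left).resolve_left hW1
  rw [eq_bot_iff]
  intro g hg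
  induction g using QuotientGroup.induction_on with
  | _ g =>
    rw [mem_bot, QuotientGroup.eq_one_iff]
    exact le_centralizer_iff.1 (hWM ▸ inf_le_right : M ≤ centralizer (F : Set G)) hg

/-- A normal `q`-subgroup, minimal among those outside the centre, whose abelian normal subgroups
are central. -/
structure MinNoncentral (N : Subgroup G) (q : ℕ) : Prop where
  normal : N.Normal
  isPGroup : IsPGroup q N
  abelian_le : ∀ R : Subgroup G, R.Normal → R ≤ N → (∀ a ∈ R, ∀ b ∈ R, a * b = b * a) → R ≤ center G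
  noncentral : ¬ N ≤ center G
  minimal : ∀ R : Subgroup G, R.Normal → R ≤ N → ¬ R ≤ center G → R = N

theorem exists_minNoncentral [Group.IsSolvable G] (hncomm : center G ≠ ⊤)
    (habel : ∀ R : Subgroup G, R.Normal → (∀ a ∈ R, ∀ b ∈ R, a * b = b * a) → R ≤ center G) :
    ∃ (N : Subgroup G) (q : ℕ), q.Prime ∧ MinNoncentral N q := by
  obtain ⟨N, ⟨hNn, hNc⟩, hNmin⟩ := wellFounded_lt.has_min
    {R : Subgroup G | R.Normal ∧ ¬ R ≤ center G} ⟨⊤, inferInstance, fun h => hncomm (top_le_iff.1 h)⟩
  have hmin : ∀ R : Subgroup G, R.Normal → R ≤ N → ¬ R ≤ center G → R = N := fun R hR hle hc =>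
    eq_of_le_of_not_lt hle fun hlt => hNmin R ⟨hR, hc⟩ hlt
  have := hNn
  have : Nontrivial N := (Subgroup.nontrivial_iff_ne_bot N).2 fun e => hNc (e ▸ bot_le)
  have hlt : commutator N < ⊤ := Group.IsSolvable.commutator_lt_top_of_nontrivial N
  have hder : (commutator N).map N.subtype ≤ center G := by
    by_contra hc
    have e := hmin _ inferInstance (Subgroup.map_subtype_le _) hc
    exact hlt.ne (Subgroup.map_injective N.subtype_injective (by
      rw [e, ← MonoidHom.range_eq_map, Subgroup.range_subtype]))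
  have hcom : commutator N ≤ center N := fun c hc => mem_center_iff.2 fun g =>
    Subtype.ext (mem_center_iff.1 (hder ⟨c, hc, rfl⟩) g)
  have hnil : Group.IsNilpotent N := by
    have : IsMulCommutative (N ⧸ center N) := ⟨⟨fun a b => by
      obtain ⟨a, rfl⟩ := QuotientGroup.mk_surjective a
      obtain ⟨b, rfl⟩ := QuotientGroup.mk_surjective b
      rw [← QuotientGroup.mk_mul, ← QuotientGroup.mk_mul, eq_comm, QuotientGroup.eq]
      refine hcom ?_
      rw [show (b * a)⁻¹ * (a * b) = ⁅a⁻¹, b⁻¹⁆ by rw [commutatorElement_def]; group]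
      exact commutator_mem_commutator (mem_top _) (mem_top _)⟩⟩
    letI : CommGroup (N ⧸ center N) :=
      { (inferInstance : Group (N ⧸ center N)) with mul_comm := fun a b => this.is_comm.comm a b }
    exact Group.of_quotient_center_nilpotent CommGroup.isNilpotent
  obtain ⟨u, hu, huc⟩ := SetLike.not_le_iff_exists.1 hNc
  -- some prime-power part of `u` is noncentral
  obtain ⟨q, hq, P, hPc⟩ : ∃ (q : ℕ) (_ : q.Prime) (P : Sylow q N),
      ¬ (P : Subgroup N).map N.subtype ≤ center G := by
    by_contra hall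
    push Not at hall
    refine huc ((?_ : (center G).subgroupOf N = ⊤) ▸ mem_top (⟨u, hu⟩ : N) :)
    rw [← Subgroup.index_eq_one]
    by_contra hne
    obtain ⟨r, hr, hdvd⟩ := Nat.exists_prime_and_dvd hne
    have : Fact r.Prime := ⟨hr⟩
    obtain ⟨P⟩ := (inferInstance : Nonempty (Sylow r N))
    refine P.not_dvd_index (hdvd.trans (Subgroup.index_dvd_of_le fun a ha => ?_))
    exact hall r hr P ⟨a, ha, rfl⟩
  have : Fact q.Prime := ⟨hq⟩
  have hPn : (P : Subgroup N).Normal :=
    ((Group.isNilpotent_of_finite_tfae (G := N)).out 0 3 rfl rfl).1 hnil q ⟨hq⟩ P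
  have := Sylow.characteristic_of_normal P hPn
  have hPN : (P : Subgroup N).map N.subtype = N := hmin _ inferInstance (Subgroup.map_subtype_le _) hPc
  exact ⟨N, q, hq, hNn, hPN ▸ P.2.map _, fun R hR _ hc => habel R hR hc, hNc, hmin⟩

namespace MinNoncentral

variable {N : Subgroup G} {q : ℕ} (h : MinNoncentral N q)

include h

theorem center_le {z : N} (hz : z ∈ center N) : (z : G) ∈ center G := by
  have := h.normal
  exact h.abelian_le ((center N).map N.subtype) inferInstance (Subgroup.map_subtype_le _) (by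
    rintro _ ⟨a, ha, rfl⟩ _ ⟨b, -, rfl⟩
    exact congrArg Subtype.val (mem_center_iff.1 ha b).symm) ⟨z, hz, rfl⟩

theorem mem_center {z : N} : z ∈ center N ↔ (z : G) ∈ center G :=
  ⟨h.center_le, fun hz => mem_center_iff.2 fun g => Subtype.ext (mem_center_iff.1 hz g)⟩

theorem nonabelian : center N ≠ ⊤ := fun e => h.noncentral fun a ha =>
  h.center_le (e ▸ mem_top (⟨a, ha⟩ : N))

theorem classTwo [hq : Fact q.Prime] (a b : N) : ⁅a, b⁆ ∈ center N := by
  have := h.normal
  have hQnil : Group.IsNilpotent N := h.isPGroup.isNilpotent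
  have : Nontrivial N := (Subgroup.nontrivial_iff_ne_bot N).2 fun e => h.noncentral (e ▸ bot_le)
  have hlt : commutator N < ⊤ := Group.IsSolvable.commutator_lt_top_of_nontrivial N
  refine h.mem_center.2 (?_ : ((⁅a, b⁆ : N) : G) ∈ center G)
  by_contra hc
  have e := h.minimal ((commutator N).map N.subtype) inferInstance (Subgroup.map_subtype_le _)
    fun hle => hc (hle ⟨_, commutator_mem_commutator (mem_top a) (mem_top b), rfl⟩)
  exact hlt.ne (Subgroup.map_injective N.subtype_injective (by
    rw [e, ← MonoidHom.range_eq_map, Subgroup.range_subtype]))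

/-- The image modulo the centre. -/
def img (_h : MinNoncentral N q) : Subgroup (G ⧸ center G) := N.map (QuotientGroup.mk' (center G))

theorem img_normal : h.img.Normal := h.normal.map _ (QuotientGroup.mk'_surjective _)

theorem img_comm [Fact q.Prime] : IsMulCommutative h.img := ⟨⟨fun a b => by
  obtain ⟨_, a, ha, rfl⟩ := a
  obtain ⟨_, b, hb, rfl⟩ := b
  refine Subtype.ext (commutatorElement_eq_one_iff_mul_comm.1 ?_)
  rw [← map_commutatorElement]
  exact (QuotientGroup.eq_one_iff _).2 (h.center_le (h.classTwo ⟨a, ha⟩ ⟨b, hb⟩))⟩⟩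

theorem img_ne_bot : h.img ≠ ⊥ := fun e => h.noncentral fun a ha =>
  (QuotientGroup.eq_one_iff a).1 (mem_bot.1 (e ▸ mem_map_of_mem _ ha : QuotientGroup.mk' (center G) a ∈ ⊥))

theorem img_minimal (K : Subgroup (G ⧸ center G)) (hK : K.Normal) (hle : K ≤ h.img) :
    K = ⊥ ∨ K = h.img := by
  have := h.normal
  set R := K.comap (QuotientGroup.mk' (center G)) ⊓ N with hR
  have hKR : K ≤ R.map (QuotientGroup.mk' (center G)) := fun k hk => by
    obtain ⟨a, ha, rfl⟩ := hle hk
    exact mem_map_of_mem _ ⟨hk, ha⟩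
  by_cases hc : R ≤ center G
  · left
    rw [eq_bot_iff]
    refine hKR.trans ?_
    rintro _ ⟨a, ha, rfl⟩
    exact mem_bot.2 ((QuotientGroup.eq_one_iff a).2 (hc ha))
  · right
    have e := h.minimal R (Subgroup.normal_inf_normal _ _) inf_le_right hc
    refine le_antisymm hle ?_
    rintro _ ⟨a, ha, rfl⟩
    rw [← e] at ha
    exact ha.1

theorem img_exponent [hq : Fact q.Prime] : ∀ m ∈ h.img, m ^ q = 1 := by
  have := h.img_normal
  have := h.img_comm
  obtain ⟨r, hr, hexp⟩ := CfsgLib.Solvable.exists_prime_pow_eq_one_of_minimal_normal h.img_ne_bot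
    h.img_minimal
  obtain ⟨m, hm, hm1⟩ := (Subgroup.bot_or_exists_ne_one h.img).resolve_left h.img_ne_bot
  obtain ⟨k, hk⟩ := h.isPGroup.map (QuotientGroup.mk' (center G)) ⟨m, hm⟩
  have hrq : r = q := by
    by_contra hne
    refine hm1 (orderOf_eq_one_iff.1 (Nat.eq_one_of_dvd_coprimes
      (((Nat.coprime_primes hr hq.out).2 hne).pow_right k) (orderOf_dvd_of_pow_eq_one (hexp m hm))
      (orderOf_dvd_of_pow_eq_one ?_)))
    exact congrArg Subtype.val hk
  exact hrq ▸ hexp

/-- The projection onto the image. -/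
def proj : N →* h.img where
  toFun n := ⟨QuotientGroup.mk' (center G) n, mem_map_of_mem _ n.2⟩
  map_one' := Subtype.ext (map_one _)
  map_mul' a b := Subtype.ext (map_mul _ (a : G) b)

theorem proj_surjective : Function.Surjective h.proj := by
  rintro ⟨_, a, ha, rfl⟩
  exact ⟨⟨a, ha⟩, rfl⟩

theorem proj_eq {a b : N} (e : h.proj a = h.proj b) : a⁻¹ * b ∈ center N :=
  h.mem_center.2 (QuotientGroup.eq.1 (congrArg Subtype.val e))

theorem ker_proj : h.proj.ker = center N := by
  ext z
  rw [MonoidHom.mem_ker, h.mem_center, Subtype.ext_iff]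
  exact QuotientGroup.eq_one_iff _

theorem card_img : Nat.card h.img = Nat.card (N ⧸ center N) := by
  rw [← h.ker_proj]
  exact (Nat.card_congr (QuotientGroup.quotientKerEquivOfSurjective _ h.proj_surjective).toEquiv).symm

/-- An element whose conjugates generate moves the image. -/
theorem img_moved [Fact q.Prime] {x : G} (hgen : Subgroup.normalClosure ({x} : Set G) = ⊤) :
    ∃ m ∈ h.img, (x : G ⧸ center G) * m * (x : G ⧸ center G)⁻¹ ≠ m := by
  by_contra hall
  push Not at hall
  have := h.img_normal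
  have hc : x ∈ (centralizer (h.img : Set (G ⧸ center G))).comap (QuotientGroup.mk' (center G)) :=
    mem_centralizer_iff.2 fun m hm => (mul_inv_eq_iff_eq_mul.1 (hall m hm)).symm
  have htop : (centralizer (h.img : Set (G ⧸ center G))).comap (QuotientGroup.mk' (center G)) = ⊤ :=
    top_le_iff.1 (hgen ▸ Subgroup.normalClosure_le_normal (Set.singleton_subset_iff.2 hc))
  -- so every subgroup of the image is normal, and the image is cyclic
  obtain ⟨u, hu, huc⟩ := SetLike.not_le_iff_exists.1 h.noncentral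
  set π := QuotientGroup.mk' (center G) with hπ
  have hcent : ∀ g m, m ∈ h.img → g * m = m * g := fun g m hm => by
    obtain ⟨g, rfl⟩ := QuotientGroup.mk'_surjective (center G) g
    have hg : g ∈ (centralizer (h.img : Set (G ⧸ center G))).comap π := htop ▸ mem_top g
    exact (mem_centralizer_iff.1 hg m hm).symm
  have hZn : (zpowers (π u)).Normal := ⟨fun n hn g => by
    rw [hcent g n ((zpowers_le.2 (mem_map_of_mem π hu) : zpowers (π u) ≤ h.img) hn),
      mul_inv_cancel_right]
    exact hn⟩
  rcases h.img_minimal _ hZn (zpowers_le.2 (mem_map_of_mem π hu)) with e | e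
  · exact huc ((QuotientGroup.eq_one_iff u).1 (zpowers_eq_bot.1 e))
  · refine h.noncentral (h.abelian_le N h.normal le_rfl fun a ha b hb => ?_)
    have key : ∀ a ∈ N, ∃ (i : ℤ) (z : G), z ∈ center G ∧ a = u ^ i * z := by
      intro a ha
      obtain ⟨i, hi⟩ := mem_zpowers_iff.1 (e.symm ▸ mem_map_of_mem π ha : π a ∈ zpowers (π u))
      exact ⟨i, (u ^ i)⁻¹ * a, QuotientGroup.eq.1 ((map_zpow π u i).trans hi),
        (mul_inv_cancel_left _ _).symm⟩
    obtain ⟨i, z, hz, rfl⟩ := key a ha
    obtain ⟨j, z', hz', rfl⟩ := key b hb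
    calc u ^ i * z * (u ^ j * z') = u ^ i * (z * u ^ j) * z' := by group
      _ = u ^ i * u ^ j * (z * z') := by rw [← mem_center_iff.1 hz (u ^ j)]; group
      _ = u ^ j * u ^ i * (z' * z) := by
          rw [← mem_center_iff.1 hz' z, ← zpow_add, ← zpow_add, add_comm]
      _ = u ^ j * (u ^ i * z') * z := by group
      _ = u ^ j * z' * (u ^ i * z) := by rw [mem_center_iff.1 hz' (u ^ i)]; group

end MinNoncentral

end CfsgLib.FixedSpace
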