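import Cfsg.Agent.Lib.FixedSpace.Imprimitive
import Cfsg.Agent.Lib.FixedSpace.Critical
import Cfsg.Agent.Lib.FixedSpace.MinNoncentral

/-!
# Less than half of a faithful irreducible module is fixed, over an algebraically closed field
-/

set_option autoImplicit false

namespace CfsgLib.FixedSpace

open Module CfsgLib.HallHigman CfsgLib.FixedFree
open scoped commutatorElement

universe u v w

variable {K : Type u} [Field K] [IsAlgClosed K] {V : Type v} [AddCommGroup V] [Module K V]
  [FiniteDimensional K V] [Nontrivial V] {G : Type w} [Group G] [Finite G]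
  {p q : ℕ} [hp : Fact p.Prime] [hq : Fact q.Prime] {N : Subgroup G}

/-- In coprime characteristic the displacements on `N / Z(N)` form a square. -/
theorem MinNoncentral.exists_square (h : MinNoncentral N q) [h.img.Normal] [IsMulCommutative h.img]
    (ρ : Representation K G V) (hQ : ScalarQ ρ N q) {x : G} (hx : x ^ p = 1)
    (hgen : Subgroup.normalClosure ({x} : Set G) = ⊤) (hqp : q ≠ p) :
    ∃ d, Nat.card (displace h.img (x : G ⧸ Subgroup.center G)).range = d * d := by
  have := h.normal
  set π := QuotientGroup.mk' (Subgroup.center G) with hπ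
  set D := displace h.img (x : G ⧸ Subgroup.center G) with hD
  have hxbar : ((x : G ⧸ Subgroup.center G)) ^ p = 1 := by rw [← QuotientGroup.mk_pow, hx]; rfl
  have hdisj : Disjoint D.ker D.range := by
    rw [disjoint_iff, eq_bot_iff]
    intro r hr
    have h1 := pow_eq_one_of_fixed hxbar hr.2 ((mem_ker_displace _ _).1 hr.1)
    obtain ⟨k, hk⟩ := h.isPGroup.map π r
    exact Subgroup.mem_bot.2 (orderOf_eq_one_iff.1 (Nat.eq_one_of_dvd_coprimes
      (((Nat.coprime_primes hp.out hq.out).2 (Ne.symm hqp)).pow_right k)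
      (orderOf_dvd_of_pow_eq_one h1) (orderOf_dvd_of_pow_eq_one hk)))
  have hcompl : D.ker.IsComplement' D.range :=
    Subgroup.isComplement'_of_card_mul_and_disjoint
      (by rw [← Subgroup.index_ker, Subgroup.card_mul_index]) hdisj
  set R : Subgroup N := D.range.comap h.proj with hR
  have hcomm : ∀ f r : N, h.proj f ∈ D.ker → r ∈ R → f * r = r * f := by
    intro f r hf hr
    obtain ⟨u', hu'⟩ := hr
    obtain ⟨u, rfl⟩ := h.proj_surjective u'
    have hz1 : ((f : G))⁻¹ * (x * f * x⁻¹) ∈ Subgroup.center G := by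
      rw [← QuotientGroup.eq]
      exact ((mem_ker_displace _ _).1 hf).symm
    have hz : (x * (u : G) * x⁻¹ * (u : G)⁻¹)⁻¹ * r ∈ Subgroup.center G :=
      QuotientGroup.eq.1 (congrArg Subtype.val hu')
    set r0 := x * (u : G) * x⁻¹ * (u : G)⁻¹ with hr0
    have hc : ⁅(f : G), (u : G)⁆ ∈ Subgroup.center G := h.center_le (h.classTwo f u)
    have e1 : x * ⁅(f : G), (u : G)⁆ * x⁻¹ = ⁅(f : G), (u : G)⁆ := by
      rw [Subgroup.mem_center_iff.1 hc x, mul_inv_cancel_right]
    have e2 : ⁅(f : G), (u : G)⁆ = ⁅(f : G), r0 * u⁆ := by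
      have h1 : x * ⁅(f : G), (u : G)⁆ * x⁻¹ = ⁅x * (f : G) * x⁻¹, x * (u : G) * x⁻¹⁆ := by
        simp only [commutatorElement_def]; group
      rw [e1] at h1
      rw [h1, show x * (u : G) * x⁻¹ = r0 * u by rw [hr0]; group]
      obtain ⟨z, hz, hfz⟩ : ∃ z ∈ Subgroup.center G, x * (f : G) * x⁻¹ = f * z :=
        ⟨_, hz1, (mul_inv_cancel_left _ _).symm⟩
      rw [hfz, commutatorElement_def, commutatorElement_def]
      calc (f : G) * z * (r0 * u) * ((f : G) * z)⁻¹ * (r0 * u)⁻¹
          = f * (z * (r0 * u) * z⁻¹) * (f : G)⁻¹ * (r0 * u)⁻¹ := by group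
        _ = _ := by rw [← Subgroup.mem_center_iff.1 hz (r0 * u), mul_inv_cancel_right]
    have e3 : ⁅(f : G), r0⁆ = 1 := by
      have h2 : ⁅(f : G), r0 * u⁆ = ⁅(f : G), r0⁆ * (r0 * ⁅(f : G), (u : G)⁆ * r0⁻¹) := by
        simp only [commutatorElement_def]; group
      rw [Subgroup.mem_center_iff.1 hc r0, mul_inv_cancel_right, ← e2, eq_comm,
        mul_eq_right] at h2
      exact h2
    have e4 : (f : G) * r0 = r0 * f := commutatorElement_eq_one_iff_mul_comm.1 e3
    refine Subtype.ext ?_
    show (f : G) * r = r * f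
    rw [show (r : G) = r0 * (r0⁻¹ * r) from (mul_inv_cancel_left _ _).symm, ← mul_assoc, e4,
      mul_assoc, Subgroup.mem_center_iff.1 hz (f : G), ← mul_assoc]
  -- the centre of `R` is the centre of `N`
  have hcen : ∀ z : N, z ∈ R → (∀ r ∈ R, r * z = z * r) → z ∈ Subgroup.center N := by
    intro z hz hzc
    refine Subgroup.mem_center_iff.2 fun n => ?_
    obtain ⟨⟨⟨a, ha⟩, ⟨b, hb⟩⟩, hab⟩ := hcompl.surjective (h.proj n)
    obtain ⟨a, rfl⟩ := h.proj_surjective a
    obtain ⟨b, rfl⟩ := h.proj_surjective b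
    have hc : (a * b)⁻¹ * n ∈ Subgroup.center N := h.proj_eq (by rw [map_mul]; exact hab)
    rw [show n = a * b * ((a * b)⁻¹ * n) from (mul_inv_cancel_left _ _).symm,
      mul_assoc (a * b), ← Subgroup.mem_center_iff.1 hc z, mul_assoc a b, ← mul_assoc b,
      hzc b hb, mul_assoc z, ← mul_assoc a, hcomm a z ha hz]
    group
  let R' : Subgroup G := R.map N.subtype
  have hR'N : R' ≤ N := Subgroup.map_subtype_le _
  let ι : R' →* N := Subgroup.inclusion hR'N
  have hιR : ∀ r : R', ι r ∈ R := fun r => by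
    obtain ⟨a, ha, e⟩ := r.2
    rwa [show ι r = a from Subtype.ext e.symm]
  have hcen' : ∀ z : R', z ∈ Subgroup.center R' ↔ ι z ∈ Subgroup.center N := by
    intro z
    constructor
    · intro hz
      refine hcen _ (hιR z) fun r hr => ?_
      exact Subtype.ext (congrArg (fun a : R' => (a : G)) (Subgroup.mem_center_iff.1 hz ⟨r, r, hr, rfl⟩) :)
    · exact fun hz => Subgroup.mem_center_iff.2 fun g =>
        Subtype.ext (congrArg Subtype.val (Subgroup.mem_center_iff.1 hz (ι g)) :)
  let ψ : R' →* D.range := ((h.proj.comp ι).codRestrict D.range hιR)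
  have hψs : Function.Surjective ψ := fun d => by
    obtain ⟨n, hn⟩ := h.proj_surjective d.1
    exact ⟨⟨n, n, show h.proj n ∈ D.range by rw [hn]; exact d.2, rfl⟩, Subtype.ext hn⟩
  have hψk : ψ.ker = Subgroup.center R' := by
    ext z
    rw [hcen', MonoidHom.mem_ker, Subtype.ext_iff, ← h.ker_proj, MonoidHom.mem_ker]
    rfl
  have hcard : Nat.card (R' ⧸ Subgroup.center R') = Nat.card D.range := by
    rw [← hψk]
    exact Nat.card_congr (QuotientGroup.quotientKerEquivOfSurjective _ hψs).toEquiv
  have hne : Subgroup.center R' ≠ ⊤ := by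
    intro e
    obtain ⟨m, hm, hmne⟩ := h.img_moved hgen
    have h1 : Nat.card D.range = 1 := by
      rw [← hcard, e]
      exact Nat.card_eq_one_iff_unique.2 ⟨QuotientGroup.subsingleton_quotient_top, ⟨1⟩⟩
    have h2 := le_card_range (M := h.img) hxbar ⟨m, hm, hmne⟩
    rw [← hD, h1] at h2
    exact absurd h2 (not_le.2 hp.out.one_lt)
  have hS : ScalarQ ρ R' q :=
    { isPGroup := h.isPGroup.to_le hR'N
      classTwo := fun a b => by
        rw [hcen', map_commutatorElement]
        exact h.classTwo _ _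
      scalar := fun z hz => hQ.scalar (ι z) ((hcen' z).1 hz)
      faithful := fun r hr => Subtype.ext (congrArg (fun n : N => (n : G)) (hQ.faithful (ι r) hr) :)
      nonabelian := hne }
  obtain ⟨d, hd⟩ := hS.exists_square
  exact ⟨d, hcard ▸ hd⟩

omit hq in
/-- Over an algebraically closed field, an element of prime order at least five whose conjugates
generate a solvable group fixes less than half of any faithful irreducible module. -/
theorem two_mul_fixed_lt_of_faithful [Group.IsSolvable G] (hp3 : 3 < p)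
    (ρ : Representation K G V) (hinj : Function.Injective ρ)
    (hirr : ∀ W : Submodule K V, (∀ g, ∀ w ∈ W, ρ g w ∈ W) → W = ⊥ ∨ W = ⊤) {x : G}
    (hx : x ^ p = 1) (hx1 : x ≠ 1) (hgen : Subgroup.normalClosure ({x} : Set G) = ⊤) :
    2 * finrank K (LinearMap.ker (ρ x - 1)) < finrank K V := by
  classical
  by_cases hall : ∀ A : Subgroup G, A.Normal → (∀ a ∈ A, ∀ b ∈ A, a * b = b * a) →
      ∀ a ∈ A, ∃ c : K, ρ a = c • (1 : Module.End K V)
  swap
  · push Not at hall
    obtain ⟨A, hA, hAc, hns⟩ := hall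
    exact two_mul_fixed_lt_of_not_scalar hp3 hx hgen ρ hirr A hAc hns
  have habel : ∀ R : Subgroup G, R.Normal → (∀ a ∈ R, ∀ b ∈ R, a * b = b * a) →
      R ≤ Subgroup.center G := fun R hR hRc a ha => Subgroup.mem_center_iff.2 fun g => by
    obtain ⟨c, hc⟩ := hall R hR hRc a ha
    exact hinj (by rw [map_mul, map_mul, hc, mul_smul_comm, smul_mul_assoc, mul_one, one_mul])
  by_cases hcz : Subgroup.center G = ⊤
  · obtain ⟨c, hc⟩ := hall ⊤ inferInstance (fun a _ b _ =>
      Subgroup.mem_center_iff.1 (hcz ▸ Subgroup.mem_top b : b ∈ Subgroup.center G) a) x (Subgroup.mem_top x)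
    have hc1 : c ≠ 1 := fun e => hx1 (hinj (by rw [hc, e, one_smul, map_one]))
    have hbot : LinearMap.ker (ρ x - 1) = ⊥ := by
      rw [eq_bot_iff]
      intro v hv
      rw [LinearMap.mem_ker, hc, LinearMap.sub_apply, LinearMap.smul_apply, Module.End.one_apply,
        show c • v - v = (c - 1) • v by rw [sub_smul, one_smul]] at hv
      exact (Submodule.mem_bot K).2 ((smul_eq_zero.1 hv).resolve_left (sub_ne_zero.2 hc1))
    rw [hbot, finrank_bot]
    exact Module.finrank_pos
  obtain ⟨N, q, hqp', h⟩ := exists_minNoncentral hcz habel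
  have : Fact q.Prime := ⟨hqp'⟩
  have := h.normal
  have := h.img_normal
  have := h.img_comm
  have hQ : ScalarQ ρ N q :=
    { isPGroup := h.isPGroup
      classTwo := h.classTwo
      scalar := fun z hz => hall (Subgroup.center G) inferInstance
        (fun a _ b hb => Subgroup.mem_center_iff.1 hb a) z (h.center_le hz)
      faithful := fun s hs => Subtype.ext (hinj (hs.trans ρ.map_one.symm))
      nonabelian := h.nonabelian }
  have hxbar : ((x : G ⧸ Subgroup.center G)) ^ p = 1 := by rw [← QuotientGroup.mk_pow, hx]; rfl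
  have hcount := sixteen_mul_fixed_le (M := h.img) hp3 (q := q)
    (h.isPGroup.map _) h.img_exponent
    (pCore_quotient_centralizer_eq_bot h.img (h.isPGroup.map _) h.img_ne_bot h.img_minimal)
    hxbar (h.img_moved hgen) fun hne => h.exists_square ρ hQ hx hgen hne
  -- pass to `N ⟨x⟩`
  set T := N ⊔ Subgroup.zpowers x
  have hNT : N ≤ T := le_sup_left
  set S := N.subgroupOf T with hSdef
  let x' : T := ⟨x, Subgroup.mem_sup_right (Subgroup.mem_zpowers x)⟩
  let e : S ≃* N := Subgroup.subgroupOfEquivOfLe hNT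
  have htop : S ⊔ Subgroup.zpowers x' = ⊤ := by
    refine Subgroup.map_injective T.subtype_injective ?_
    rw [Subgroup.map_sup, hSdef, Subgroup.map_subgroupOf_eq_of_le hNT, MonoidHom.map_zpowers,
      ← MonoidHom.range_eq_map, Subgroup.range_subtype]
    rfl
  let σ : Representation K T V := ρ.comp T.subtype
  let P : ∀ (W : Type v) [AddCommGroup W] [Module K W], Representation K T W → Prop :=
    fun W _ _ τ => ∀ z : N, z ∈ Subgroup.center N → ∀ c : K, ρ (z : G) = c • (1 : Module.End K V) →
      τ ⟨z, hNT z.2⟩ = c • (1 : Module.End K W)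
  refine two_mul_fixed_lt_of_factors x' P ?_ ?_ ?_ σ fun z _ c hc => hc
  · intro W _ _ τ U hU hP z hz c hc
    refine LinearMap.ext fun w => Subtype.ext ?_
    show τ ⟨z, hNT z.2⟩ (w : W) = c • (w : W)
    rw [hP z hz c hc]
    rfl
  · intro W _ _ τ U hU hP z hz c hc
    refine LinearMap.ext fun w => ?_
    obtain ⟨w, rfl⟩ := Submodule.Quotient.mk_surjective U w
    show (Submodule.Quotient.mk (τ ⟨z, hNT z.2⟩ w) : W ⧸ U) = c • Submodule.Quotient.mk w
    rw [hP z hz c hc]
    rfl
  intro W _ _ _ _ τ hP hirrW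
  have heN : ∀ s : S, ((e s : N) : G) = ((s : T) : G) := fun s => rfl
  have hcen : ∀ s : S, s ∈ Subgroup.center S ↔ e s ∈ Subgroup.center N := fun s => by
    rw [Subgroup.mem_center_iff, Subgroup.mem_center_iff]
    refine ⟨fun hs g => ?_, fun hs g => e.injective (by rw [map_mul, map_mul, hs (e g)])⟩
    obtain ⟨g, rfl⟩ := e.surjective g
    rw [← map_mul, ← map_mul, hs g]
  have hSQ : ScalarQ τ S q := by
    have hscal : ∀ s : S, s ∈ Subgroup.center S →
        ∃ c : K, ρ ((e s : N) : G) = c • (1 : Module.End K V) ∧ τ (s : T) = c • (1 : Module.End K W) := by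
      intro s hs
      obtain ⟨c, hc⟩ := hQ.scalar _ ((hcen s).1 hs)
      exact ⟨c, hc, hP _ ((hcen s).1 hs) c hc⟩
    have hclass : ∀ a b : S, ⁅a, b⁆ ∈ Subgroup.center S := fun a b => by
      rw [hcen, map_commutatorElement]
      exact h.classTwo _ _
    have hcenfaith : ∀ s : S, s ∈ Subgroup.center S → τ (s : T) = 1 → s = 1 := by
      intro s hs hs1
      obtain ⟨c, hc, hc'⟩ := hscal s hs
      have hc1 : c = 1 := eq_of_smul_one_eq (V := W) (by rw [← hc', hs1, one_smul])
      exact e.injective (by rw [map_one]; exact hQ.faithful _ (by rw [hc, hc1, one_smul]))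
    refine ⟨h.isPGroup.of_equiv e.symm, hclass,
      fun s hs => (hscal s hs).imp fun c hc => hc.2, fun s hs => ?_, fun etop => ?_⟩
    · refine hcenfaith s (Subgroup.mem_center_iff.2 fun g => ?_) hs
      refine commutatorElement_eq_one_iff_mul_comm.1 (hcenfaith _ (hclass g s) ?_)
      rw [commutatorElement_def]
      push_cast
      rw [map_mul, map_mul, map_mul, hs, mul_one, ← map_mul, mul_inv_cancel, map_one, one_mul]
      conv_lhs => rw [← one_mul (τ _), ← hs, ← map_mul, mul_inv_cancel, map_one]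
    · refine h.nonabelian (eq_top_iff.2 fun n _ => ?_)
      obtain ⟨s, rfl⟩ := e.surjective n
      exact (hcen s).1 (etop ▸ Subgroup.mem_top s)
  refine two_mul_fixed_lt_of_critical hp3 τ hSQ (x := x') (Subtype.ext hx) htop hirrW
    (fun s => h.proj (e s)) (h.proj_surjective.comp e.surjective) (fun s t hst => ?_) ?_
    (MulAut.conjNormal (x : G ⧸ Subgroup.center G) : h.img ≃* h.img) (conjNormal_periodic hxbar)
    (fun s => Subtype.ext ?_) ?_
  · rw [hcen, map_mul, map_inv]
    exact h.proj_eq hst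
  · rw [h.card_img]
    exact (card_center_quotient_congr e).symm
  · rfl
  · refine le_of_eq_of_le ?_ hcount
    congr 1
    exact Nat.card_congr (Equiv.subtypeEquivRight fun m => by rw [Subtype.ext_iff]; rfl)

end CfsgLib.FixedSpace
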