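import Cfsg.Agent.Lib.FixedSpace.Monomial

/-!
# From irreducible subquotients to all representations
-/

set_option autoImplicit false

namespace CfsgLib.FixedSpace

open Module

universe u v w

variable {K : Type u} [Field K] {T : Type w} [Group T]

/-- The representation on an invariant subspace. -/
def subRep {V : Type v} [AddCommGroup V] [Module K V] (σ : Representation K T V) (W : Submodule K V)
    (h : ∀ t, ∀ w ∈ W, σ t w ∈ W) : Representation K T W where
  toFun t := (σ t).restrict (h t)
  map_one' := by ext w; simp
  map_mul' a b := by ext w; simp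

/-- The representation on the quotient by an invariant subspace. -/
def quoRep {V : Type v} [AddCommGroup V] [Module K V] (σ : Representation K T V) (W : Submodule K V)
    (h : ∀ t, ∀ w ∈ W, σ t w ∈ W) : Representation K T (V ⧸ W) where
  toFun t := W.mapQ W (σ t) fun w hw => h t w hw
  map_one' := by ext w; simp
  map_mul' a b := by ext w; simp

/-- If less than half is fixed on every irreducible representation with a property inherited by
subquotients, then on every representation with it. -/
theorem two_mul_fixed_lt_of_factors (x : T)
    (P : ∀ (V : Type v) [AddCommGroup V] [Module K V], Representation K T V → Prop)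
    (hsub : ∀ (V : Type v) [AddCommGroup V] [Module K V] (σ : Representation K T V)
      (W : Submodule K V) (h : ∀ t, ∀ w ∈ W, σ t w ∈ W), P V σ → P W (subRep σ W h))
    (hquo : ∀ (V : Type v) [AddCommGroup V] [Module K V] (σ : Representation K T V)
      (W : Submodule K V) (h : ∀ t, ∀ w ∈ W, σ t w ∈ W), P V σ → P (V ⧸ W) (quoRep σ W h))
    (hbase : ∀ (V : Type v) [AddCommGroup V] [Module K V] [FiniteDimensional K V] [Nontrivial V]
      (σ : Representation K T V), P V σ →
      (∀ W : Submodule K V, (∀ t, ∀ w ∈ W, σ t w ∈ W) → W = ⊥ ∨ W = ⊤) →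
      2 * finrank K (LinearMap.ker (σ x - 1)) < finrank K V)
    {V : Type v} [AddCommGroup V] [Module K V] [FiniteDimensional K V] [Nontrivial V]
    (σ : Representation K T V) (hP : P V σ) :
    2 * finrank K (LinearMap.ker (σ x - 1)) < finrank K V := by
  obtain ⟨d, hd⟩ : ∃ d, finrank K V = d := ⟨_, rfl⟩
  induction d using Nat.strong_induction_on generalizing V with
  | _ d ih =>
    by_cases hirr : ∀ W : Submodule K V, (∀ t, ∀ w ∈ W, σ t w ∈ W) → W = ⊥ ∨ W = ⊤
    · exact hbase V σ hP hirr
    push Not at hirr
    obtain ⟨W, hW, hWb, hWt⟩ := hirr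
    have h1 : 0 < finrank K W := by
      have := Submodule.nontrivial_iff_ne_bot.2 hWb
      exact Module.finrank_pos
    have h3 := W.finrank_quotient_add_finrank
    have h4 : finrank K W < finrank K V := Submodule.finrank_lt hWt
    have hWn := Submodule.nontrivial_iff_ne_bot.2 hWb
    have hQn : Nontrivial (V ⧸ W) := Submodule.Quotient.nontrivial_iff.2 hWt
    have i1 := ih _ (by omega) (subRep σ W hW) (hsub V σ W hW hP) rfl
    have i2 := ih _ (by omega) (quoRep σ W hW) (hquo V σ W hW hP) rfl
    have h5 : finrank K (LinearMap.ker (σ x - 1)) ≤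
        finrank K (LinearMap.ker (subRep σ W hW x - 1)) +
          finrank K (LinearMap.ker (quoRep σ W hW x - 1)) :=
      finrank_fixed_le_add (σ x) W (hW x) fun w hw => hW x w hw
    omega

end CfsgLib.FixedSpace
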