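import Cfsg.Agent.Lib.FixedSpace.Main
import Cfsg.Agent.Lib.PLength.ConjRep
import Cfsg.Agent.Lib.Coprime.Action
import Cfsg.Agent.Lib.Transfer.ClassTwo
import Mathlib.Algebra.Field.ZMod

/-!
# Two conjugates generating a solvable group can be chosen to cover a moved section
-/

set_option autoImplicit false

namespace CfsgLib.FixedSpace

open Subgroup Module
open scoped commutatorElement Pointwise

universe u

variable {H : Type u} [Group H] [Finite H] {p r : ℕ} [hp : Fact p.Prime] [hr : Fact r.Prime]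

omit hr in
theorem closure_pair_normalClosure {A : Subgroup H} {x a : H} (ha : a ∈ A)
    (hA : A = zpowers x ⊔ zpowers (a * x * a⁻¹)) (hxA : x ∈ A) :
    Subgroup.normalClosure ({⟨x, hxA⟩} : Set A) = ⊤ := by
  set N := Subgroup.normalClosure ({⟨x, hxA⟩} : Set A) with hN
  have hxN : (⟨x, hxA⟩ : A) ∈ N := Subgroup.subset_normalClosure rfl
  have h1 : A ≤ N.map A.subtype := hA.le.trans (sup_le (zpowers_le.2 ⟨_, hxN, rfl⟩) (zpowers_le.2
    ⟨⟨a, ha⟩ * ⟨x, hxA⟩ * ⟨a, ha⟩⁻¹, Subgroup.normalClosure_normal.conj_mem _ hxN _, rfl⟩))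
  rw [eq_top_iff]
  intro g _
  obtain ⟨g', hg', e⟩ := h1 g.2
  rwa [← Subtype.ext e]

/-- Some translate of the generating pair is no complement. -/
theorem exists_not_complement (hp3 : 3 < p) {M : Subgroup H} [hMn : M.Normal]
    (hMc : ∀ a ∈ M, ∀ b ∈ M, a * b = b * a) (hMe : ∀ m ∈ M, m ^ r = 1) {A Q : Subgroup H}
    [Group.IsSolvable A] (hdisj : M ⊓ A = ⊥) (hQA : Q ≤ A) (hQn : ∀ g ∈ A, ∀ u ∈ Q, g * u * g⁻¹ ∈ Q)
    (hQcop : (Nat.card Q).Coprime (Nat.card M)) (hmov : ¬ M ≤ centralizer (Q : Set H))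
    (hmin : ∀ S : Subgroup H, S ≤ M → A ≤ normalizer (S : Set H) → S = ⊥ ∨ S = M) {x a : H}
    (hx : x ^ p = 1) (ha : a ∈ A) (hA : A = zpowers x ⊔ zpowers (a * x * a⁻¹)) :
    ∃ t ∈ M, M ⊓ (zpowers x ⊔ zpowers (t * a * x * (t * a)⁻¹)) ≠ ⊥ := by
  classical
  have hxA : x ∈ A := hA ▸ mem_sup_left (mem_zpowers x)
  by_contra hcon
  push Not at hcon
  -- no point of `M` is fixed by `Q`
  have hCQ : M ⊓ centralizer (Q : Set H) = ⊥ := by
    refine (hmin _ inf_le_left fun g hg => ?_).resolve_right fun e => hmov (e ▸ inf_le_right)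
    refine HallHigman.mem_normalizer_of_conj_mem fun m hm => ⟨hMn.conj_mem m hm.1 g, ?_⟩
    refine mem_centralizer_iff.2 fun u hu => ?_
    have h1 := mem_centralizer_iff.1 hm.2 (g⁻¹ * u * g)
      (by simpa using hQn g⁻¹ (inv_mem hg) u hu)
    calc u * (g * m * g⁻¹) = g * ((g⁻¹ * u * g) * m) * g⁻¹ := by group
      _ = g * (m * (g⁻¹ * u * g)) * g⁻¹ := by rw [h1]
      _ = g * m * g⁻¹ * u := by group
  -- every element of `M` is a product of fixed points
  have hsplit : ∀ t ∈ M, ∃ c ∈ M, ∃ d ∈ M, x * c = c * x ∧ x * d = d * x ∧ c * (a * d * a⁻¹) = t := by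
    intro t ht
    set B := zpowers x ⊔ zpowers (t * a * x * (t * a)⁻¹) with hB
    have hMB : M ⊓ B = ⊥ := hcon t ht
    have hxB : x ∈ B := mem_sup_left (mem_zpowers x)
    have hyB : t * a * x * (t * a)⁻¹ ∈ B := mem_sup_right (mem_zpowers _)
    have hAMB : A ≤ M ⊔ B := by
      rw [hA]
      refine sup_le (zpowers_le.2 (mem_sup_right hxB)) (zpowers_le.2 ?_)
      rw [show a * x * a⁻¹ = t⁻¹ * (t * a * x * (t * a)⁻¹) * t by group]
      exact mul_mem (mul_mem (mem_sup_left (inv_mem ht)) (mem_sup_right hyB)) (mem_sup_left ht)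
    have hQnorm : Q ≤ normalizer (M : Set H) := by rw [Subgroup.normalizer_eq_top]; exact le_top
    have hQsol : Group.IsSolvable Q :=
      Group.isSolvable_of_isSolvable_injective (Subgroup.inclusion_injective hQA)
    obtain ⟨s, ⟨m, hm, rfl⟩, hs⟩ := Coprime.exists_fixed_point hQnorm hQcop (Or.inl hQsol)
      (α := H ⧸ B) {c | ∃ m ∈ M, ((m : H) : H ⧸ B) = c} ⟨_, 1, one_mem _, rfl⟩
      (fun u hu c hc => by
        obtain ⟨m, hm, rfl⟩ := hc
        obtain ⟨n, hn, b, hb, hnb⟩ := Set.mem_mul.1 (by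
          rw [← Subgroup.normal_mul]; exact hAMB (hQA hu) : u ∈ (M : Set H) * (B : Set H))
        refine ⟨u * m * u⁻¹ * n, mul_mem (hMn.conj_mem m hm u) hn, ?_⟩
        show _ = ((u * m : H) : H ⧸ B)
        rw [QuotientGroup.eq, ← hnb]
        convert SetLike.mem_coe.1 hb using 1
        group)
      (fun g hg c hc => by
        obtain ⟨m, hm, rfl⟩ := hc
        exact ⟨g * m, mul_mem hg hm, rfl⟩)
      (fun c hc d hd => by
        obtain ⟨m, hm, rfl⟩ := hc
        obtain ⟨m', hm', rfl⟩ := hd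
        exact ⟨m' * m⁻¹, mul_mem hm' (inv_mem hm), by
          show ((m' * m⁻¹ * m : H) : H ⧸ B) = _
          rw [inv_mul_cancel_right]⟩)
    have hQB : ∀ u ∈ Q, m⁻¹ * u * m ∈ B := fun u hu => by
      have h1 : ((u * m : H) : H ⧸ B) = ((m : H) : H ⧸ B) := hs u hu
      rw [QuotientGroup.eq] at h1
      have h2 := inv_mem h1
      convert h2 using 1
      group
    -- so the translate of `B` is inside `A`
    have hBA : ∀ b ∈ B, m * b * m⁻¹ ∈ A := by
      intro b hb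
      have hbMA : m * b * m⁻¹ ∈ M ⊔ A := by
        refine mul_mem (mul_mem (mem_sup_left hm) ?_) (mem_sup_left (inv_mem hm))
        refine (sup_le (zpowers_le.2 (mem_sup_right hxA)) (zpowers_le.2 ?_) : B ≤ M ⊔ A) hb
        exact mul_mem (mul_mem (mul_mem (mem_sup_left ht) (mem_sup_right ha)) (mem_sup_right hxA))
          (inv_mem (mul_mem (mem_sup_left ht) (mem_sup_right ha)))
      obtain ⟨n, hn, g, hg, hng⟩ := Set.mem_mul.1 (by
        rw [← Subgroup.normal_mul]; exact hbMA : m * b * m⁻¹ ∈ (M : Set H) * (A : Set H))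
      have hn1 : n ∈ M ⊓ centralizer (Q : Set H) := ⟨hn, mem_centralizer_iff.2 fun u hu => by
        have h1 : m⁻¹ * (n * u * n⁻¹) * m ∈ B := by
          have h2 := hQB _ (hQn g⁻¹ (inv_mem hg) u hu)
          have h3 := mul_mem (mul_mem hb h2) (inv_mem hb)
          convert h3 using 1
          rw [show n = m * b * m⁻¹ * g⁻¹ by rw [← hng]; group]
          group
        have h4 : m⁻¹ * (n * u * n⁻¹ * u⁻¹) * m ∈ M ⊓ B := by
          refine Subgroup.mem_inf.2 ⟨hMn.conj_mem' _ ?_ m, ?_⟩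
          · rw [show n * u * n⁻¹ * u⁻¹ = n * (u * n⁻¹ * u⁻¹) by group]
            exact mul_mem hn (hMn.conj_mem _ (inv_mem hn) u)
          · have h5 := mul_mem h1 (inv_mem (hQB u hu))
            convert h5 using 1
            group
        rw [hMB, mem_bot] at h4
        have h6 : n * u * n⁻¹ * u⁻¹ = 1 := by
          calc n * u * n⁻¹ * u⁻¹ = m * (m⁻¹ * (n * u * n⁻¹ * u⁻¹) * m) * m⁻¹ := by group
            _ = 1 := by rw [h4]; group
        exact (mul_inv_eq_iff_eq_mul.1 (mul_inv_eq_one.1 h6)).symm⟩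
      rw [hCQ, mem_bot] at hn1
      rw [← hng, hn1, one_mul]
      exact hg
    have hfix : ∀ n ∈ M, ∀ g ∈ A, n * g * n⁻¹ ∈ A → g * n = n * g := by
      intro n hn g hg h
      have h1 : n * g * n⁻¹ * g⁻¹ ∈ M ⊓ A := Subgroup.mem_inf.2 ⟨by
        rw [show n * g * n⁻¹ * g⁻¹ = n * (g * n⁻¹ * g⁻¹) by group]
        exact mul_mem hn (hMn.conj_mem _ (inv_mem hn) g), mul_mem h (inv_mem hg)⟩
      rw [hdisj, mem_bot, mul_inv_eq_one, mul_inv_eq_iff_eq_mul] at h1
      exact h1.symm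
    have h1 := hfix m hm x hxA (hBA x hxB)
    have hy : a * x * a⁻¹ ∈ A := mul_mem (mul_mem ha hxA) (inv_mem ha)
    have h2 := hfix (m * t) (mul_mem hm ht) _ hy (by
      convert hBA _ hyB using 1
      group)
    refine ⟨m⁻¹, inv_mem hm, a⁻¹ * (m * t) * a, hMn.conj_mem' _ (mul_mem hm ht) a,
      (Commute.inv_right h1).eq, ?_, by group⟩
    calc x * (a⁻¹ * (m * t) * a) = a⁻¹ * ((a * x * a⁻¹) * (m * t)) * a := by group
      _ = a⁻¹ * ((m * t) * (a * x * a⁻¹)) * a := by rw [h2]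
      _ = a⁻¹ * (m * t) * a * x := by group
  -- the representation of `A` on `M`
  let hE : CfsgLib.PLength.ElemNormal r M := ⟨hMn, hMc, hMe⟩
  let ρ : Representation (ZMod r) A hE.Space := hE.conjRep.comp A.subtype
  let π := QuotientGroup.mk' ρ.ker
  let ρ' : Representation (ZMod r) (A ⧸ ρ.ker) hE.Space := QuotientGroup.lift ρ.ker ρ le_rfl
  have hρ' : ∀ g, ρ' (π g) = ρ g := fun g => QuotientGroup.lift_mk' _ _ g
  have hinj : Function.Injective ρ' := by
    intro g g' hgg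
    obtain ⟨g, rfl⟩ := QuotientGroup.mk'_surjective ρ.ker g
    obtain ⟨g', rfl⟩ := QuotientGroup.mk'_surjective ρ.ker g'
    rw [hρ', hρ'] at hgg
    exact QuotientGroup.eq.2 (MonoidHom.mem_ker.2 (by
      rw [map_mul, ← hgg, ← map_mul, inv_mul_cancel, map_one]))
  have hMne : M ≠ ⊥ := fun e => hmov (e ▸ bot_le)
  have : Nontrivial hE.Space := by
    have := (Subgroup.nontrivial_iff_ne_bot M).2 hMne
    exact hE.vec.symm.nontrivial
  have hirr : ∀ W : Submodule (ZMod r) hE.Space,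
      (∀ g, ∀ w ∈ W, ρ' g w ∈ W) → W = ⊥ ∨ W = ⊤ := by
    intro W hW
    let S : Subgroup H :=
      { carrier := {m | ∃ hm : m ∈ M, hE.vec ⟨m, hm⟩ ∈ W}
        one_mem' := ⟨one_mem M, by rw [show (⟨1, one_mem M⟩ : M) = 1 from rfl, hE.vec_one]; exact W.zero_mem⟩
        mul_mem' := fun {b c} hb hc => ⟨mul_mem hb.1 hc.1, by
          have := W.add_mem hb.2 hc.2
          rwa [← hE.vec_mul] at this⟩
        inv_mem' := fun {b} hb => ⟨inv_mem hb.1, by
          have := W.neg_mem hb.2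
          rwa [← hE.vec_inv] at this⟩ }
    have hS : S ≤ M := fun m hm => hm.1
    have hAS : A ≤ normalizer (S : Set H) := fun g hg =>
      HallHigman.mem_normalizer_of_conj_mem fun m hm => ⟨hMn.conj_mem m hm.1 g, by
        have := hW (π ⟨g, hg⟩) _ hm.2
        rw [hρ'] at this
        show hE.vec _ ∈ W
        rw [← hE.conjRep_vec g ⟨m, hm.1⟩]
        exact this⟩
    rcases hmin S hS hAS with h | h
    · refine Or.inl ((Submodule.eq_bot_iff W).2 fun w hw => ?_)
      obtain ⟨m, rfl⟩ := hE.vec.surjective w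
      have hm : (m : H) ∈ S := ⟨m.2, hw⟩
      rw [h, mem_bot] at hm
      exact hE.vec_eq_zero.2 (Subtype.ext hm)
    · refine Or.inr (eq_top_iff.2 fun w _ => ?_)
      obtain ⟨m, rfl⟩ := hE.vec.surjective w
      exact (h.symm ▸ m.2 : (m : H) ∈ S).2
  have hgen := Subgroup.map_normalClosure ({⟨x, hxA⟩} : Set A) π (QuotientGroup.mk'_surjective _)
  rw [closure_pair_normalClosure ha hA hxA, ← MonoidHom.range_eq_map, QuotientGroup.range_mk',
    Set.image_singleton] at hgen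
  have hx1 : π ⟨x, hxA⟩ ≠ 1 := fun e => by
    have hk : ρ.ker = ⊤ := by
      have h1 : (⟨x, hxA⟩ : A) ∈ ρ.ker := (QuotientGroup.eq_one_iff _).1 e
      exact top_le_iff.1 (closure_pair_normalClosure ha hA hxA ▸
        Subgroup.normalClosure_le_normal (Set.singleton_subset_iff.2 h1))
    refine hmov fun m hm => mem_centralizer_iff.2 fun u hu => ?_
    exact hE.conjRep_eq_one.1 (MonoidHom.mem_ker.1 (hk ▸ mem_top (⟨u, hQA hu⟩ : A) :
      (⟨u, hQA hu⟩ : A) ∈ ρ.ker)) m hm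
  have hlt := two_mul_fixed_lt hp3 ρ' hinj hirr (x := π ⟨x, hxA⟩)
    (by rw [← map_pow, show (⟨x, hxA⟩ : A) ^ p = 1 from Subtype.ext (by simpa using hx), map_one])
    hx1 hgen.symm
  rw [hρ'] at hlt
  set C := LinearMap.ker (ρ ⟨x, hxA⟩ - 1)
  have hmemC : ∀ m : M, x * (m : H) = m * x → hE.vec m ∈ C := fun m hm => by
    rw [LinearMap.mem_ker]
    show (hE.conjRep x - 1) (hE.vec m) = 0
    rw [hE.conjRep_sub_one_vec, hE.vec_eq_zero]
    exact Subtype.ext (by
      show x * (m : H) * x⁻¹ * (m : H)⁻¹ = 1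
      rw [hm]; group)
  let f : C × C → hE.Space := fun z => z.1.1 + hE.conjRep a z.2.1
  have hf : Function.Surjective f := fun w => by
    obtain ⟨t, rfl⟩ := hE.vec.surjective w
    obtain ⟨c, hc, d, hd, hxc, hxd, hcd⟩ := hsplit t t.2
    refine ⟨(⟨hE.vec ⟨c, hc⟩, hmemC _ hxc⟩, ⟨hE.vec ⟨d, hd⟩, hmemC _ hxd⟩), ?_⟩
    show hE.vec _ + hE.conjRep a (hE.vec _) = _
    rw [hE.conjRep_vec, ← hE.vec_mul]
    exact congrArg hE.vec (Subtype.ext hcd)
  have hcard := Nat.card_le_card_of_surjective f hf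
  rw [Nat.card_prod, Module.natCard_eq_pow_finrank (K := ZMod r),
    Module.natCard_eq_pow_finrank (K := ZMod r) (V := C), ← pow_add, Nat.card_zmod,
    Nat.pow_le_pow_iff_right hr.out.one_lt] at hcard
  omega

end CfsgLib.FixedSpace
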