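import Cfsg.Agent.Lib.FixedSpace.Ratio
import Cfsg.Agent.Lib.FixedFree.Weights

/-!
# The imprimitive case: an abelian normal subgroup not acting by scalars
-/

set_option autoImplicit false

namespace CfsgLib.FixedSpace

open Module CfsgLib.HallHigman CfsgLib.FixedFree

universe u v w

variable {K : Type u} [Field K] [IsAlgClosed K] {V : Type v} [AddCommGroup V] [Module K V]
  [FiniteDimensional K V] {G : Type w} [Group G] [Finite G]

/-- With a non-scalar abelian normal subgroup, less than half is fixed. -/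
theorem two_mul_fixed_lt_of_not_scalar [Group.IsSolvable G] [Nontrivial V] {p : ℕ}
    [hp : Fact p.Prime] (hp3 : 3 < p) {x : G} (hx : x ^ p = 1)
    (hgen : Subgroup.normalClosure ({x} : Set G) = ⊤) (ρ : Representation K G V)
    (hirr : ∀ W : Submodule K V, (∀ g, ∀ w ∈ W, ρ g w ∈ W) → W = ⊥ ∨ W = ⊤) (A : Subgroup G)
    [hA : A.Normal] (hAc : ∀ a ∈ A, ∀ b ∈ A, a * b = b * a)
    (hns : ∃ a ∈ A, ∀ c : K, ρ a ≠ c • (1 : Module.End K V)) :
    2 * finrank K (LinearMap.ker (ρ x - 1)) < finrank K V := by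
  classical
  obtain ⟨v, χ, -, hv0, hv⟩ := exists_weight ρ A (M := ⊤) top_ne_bot
    (fun _ _ _ _ => Submodule.mem_top) fun a ha b hb w _ => by rw [hAc a ha b hb]
  set U := charSpace ρ A χ with hUdef
  set S := charStabilizer A χ with hSdef
  have hUne : U ≠ ⊥ := (Submodule.ne_bot_iff _).2 ⟨v, hv, hv0⟩
  have hS : S ≠ ⊤ := fun e => by
    have hU : U = ⊤ := (hirr U fun g w hw =>
      charSpace_map_mem (show g ∈ S by rw [e]; trivial) hw).resolve_left hUne
    obtain ⟨a, ha, hne⟩ := hns
    exact hne (χ a) (LinearMap.ext fun w => by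
      rw [LinearMap.smul_apply, Module.End.one_apply]
      exact (hU ▸ Submodule.mem_top : w ∈ U) a ha)
  have : Fintype (G ⧸ S) := Fintype.ofFinite _
  -- the sum of the translates
  let L : ((G ⧸ S) → U) →ₗ[K] V :=
    ∑ c : G ⧸ S, (ρ c.out ∘ₗ U.subtype) ∘ₗ LinearMap.proj c
  have hL : ∀ F, L F = ∑ c : G ⧸ S, ρ c.out (F c : V) := fun F => by simp [L]
  have hin : Function.Injective L := by
    refine (injective_iff_map_eq_zero L).2 fun F hF => funext fun c => Subtype.ext ?_
    have hweights : ∀ a b : G ⧸ S,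
        (∀ z ∈ A, χ (a.out⁻¹ * z * a.out) = χ (b.out⁻¹ * z * b.out)) → a = b := by
      intro a b hab
      rw [← QuotientGroup.out_eq' a, ← QuotientGroup.out_eq' b, eq_comm, QuotientGroup.eq]
      refine ⟨by rw [Subgroup.normalizer_eq_top]; trivial, fun z hz => ?_⟩
      have h1 := hab (b.out * z * b.out⁻¹) (hA.conj_mem z hz _)
      convert h1 using 2 <;> group
    have h0 := eq_zero_of_sum_eigen ρ A (fun (a : G ⧸ S) z => χ (a.out⁻¹ * z * a.out)) hweights
      (fun a => ρ a.out (F a : V)) (fun a z hz => by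
        have h1 : a.out⁻¹ * z * a.out ∈ A := hA.conj_mem' z hz _
        rw [← rep_self_mul_apply, show z * a.out = a.out * (a.out⁻¹ * z * a.out) by group,
          rep_self_mul_apply, (F a).2 _ h1, map_smul]) (by rw [← hL, hF]) c
    rw [← rep_inv_apply_self ρ c.out (F c : V), h0, map_zero]
    rfl
  have hstab : ∀ (g : G) (c : G ⧸ S), (g • c).out⁻¹ * g * c.out ∈ S := fun g c => by
    rw [mul_assoc, ← QuotientGroup.eq, QuotientGroup.out_eq']
    conv_lhs => rw [← QuotientGroup.out_eq' c]
    rfl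
  let h : G → G ⧸ S → Module.End K U := fun g c =>
    (ρ ((g • c).out⁻¹ * g * c.out)).restrict fun w hw => charSpace_map_mem (hstab g c) hw
  have hact : ∀ (g : G) F, ρ g (L F) = L fun d => h g (g⁻¹ • d) (F (g⁻¹ • d)) := by
    intro g F
    rw [hL, hL, map_sum]
    refine Fintype.sum_equiv (MulAction.toPerm g) _ _ fun c => ?_
    rw [MulAction.toPerm_apply, inv_smul_smul, LinearMap.coe_restrict_apply, ← rep_self_mul_apply,
      ← rep_self_mul_apply]
    congr 2
    group
  have hsurj : Function.Surjective L := by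
    refine LinearMap.range_eq_top.1 ((hirr _ ?_).resolve_left ?_)
    · rintro g _ ⟨F, rfl⟩
      exact ⟨_, (hact g F).symm⟩
    · obtain ⟨w, hw, hw0⟩ := Submodule.exists_mem_ne_zero_of_ne_bot hUne
      refine (Submodule.ne_bot_iff _).2 ⟨L fun _ => ⟨w, hw⟩, ⟨_, rfl⟩, fun e => hw0 ?_⟩
      have := congrFun ((injective_iff_map_eq_zero L).1 hin _ e) ((1 : G) : G ⧸ S)
      exact congrArg Subtype.val this
  let Φ := LinearEquiv.ofBijective L ⟨hin, hsurj⟩
  have hper : (fun c : G ⧸ S => x • c)^[p] = id := by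
    rw [smul_iterate, hx]
    exact funext fun c => one_smul G c
  have hbound := mul_finrank_fixed_le hper Φ (ρ x) (h x) fun F c => by
    rw [show ρ x (Φ F) = Φ (fun d => h x (x⁻¹ • d) (F (x⁻¹ • d))) from hact x F,
      LinearEquiv.symm_apply_apply, inv_smul_smul]
  have hratio := five_mul_fixed_coset_le hp3 hx hgen hS
  have hdim : finrank K V = S.index * finrank K U := by
    rw [← Φ.finrank_eq, Module.finrank_pi_fintype, Finset.sum_const, Finset.card_univ, smul_eq_mul,
      ← Nat.card_eq_fintype_card]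
    rfl
  rw [hdim]
  have he : 0 < finrank K U := by
    have := Submodule.nontrivial_iff_ne_bot.2 hUne
    exact Module.finrank_pos
  set C := finrank K (LinearMap.ker (ρ x - 1))
  set f := Nat.card {c : G ⧸ S // x • c = c}
  set m := S.index with hm
  have hm' : Nat.card (G ⧸ S) = m := rfl
  rw [hm'] at hbound
  set e := finrank K U
  have hmpos : 0 < m * e := Nat.mul_pos (Nat.pos_of_ne_zero S.index_ne_zero_of_finite) he
  by_contra hcon
  push Not at hcon
  have hp5 : 5 ≤ p := by
    have hp4 : p ≠ 4 := fun e => by have := hp.out; subst e; norm_num at this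
    omega
  obtain ⟨p', rfl⟩ : ∃ p', p = p' + 5 := ⟨p - 5, by omega⟩
  have h1 : 5 * f * e ≤ m * e := Nat.mul_le_mul_right e hratio
  have h2 : p' * (5 * f * e) ≤ p' * (m * e) := Nat.mul_le_mul_left p' h1
  have h3 : (p' + 5) * (m * e) ≤ (p' + 5) * (2 * C) := Nat.mul_le_mul_left _ hcon
  nlinarith

end CfsgLib.FixedSpace
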