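import Cfsg.Agent.Lib.FixedSpace.Monomial
import Cfsg.Agent.Lib.Complement.QuadSolvable
import Mathlib.GroupTheory.Commutator.Basic

/-!
# The index of the fixed points of an element of prime order on a normal abelian subgroup
-/

set_option autoImplicit false

namespace CfsgLib.FixedSpace

open Subgroup Function
open scoped commutatorElement

universe u

variable {H : Type u} [Group H] (M : Subgroup H) [M.Normal] [hMc : IsMulCommutative M] (x : H)

/-- The map `m ↦ [x, m]` of a normal abelian subgroup. -/
def displace : M →* M where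
  toFun m := MulAut.conjNormal x m * m⁻¹
  map_one' := by simp
  map_mul' a b := by
    rw [map_mul, mul_inv_rev, hMc.is_comm.comm b⁻¹ a⁻¹]
    simp only [mul_assoc]
    congr 1
    rw [← mul_assoc, hMc.is_comm.comm (MulAut.conjNormal x b) a⁻¹, mul_assoc]

theorem displace_coe (m : M) : (displace M x m : H) = x * m * x⁻¹ * (m : H)⁻¹ := rfl

theorem mem_ker_displace {m : M} : m ∈ (displace M x).ker ↔ x * (m : H) * x⁻¹ = m := by
  rw [MonoidHom.mem_ker, Subtype.ext_iff, displace_coe, Subgroup.coe_one, mul_inv_eq_one]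

theorem card_fixed_mul_card_range [Finite H] :
    Nat.card {m : M // x * (m : H) * x⁻¹ = m} * Nat.card (displace M x).range = Nat.card M := by
  rw [← Subgroup.card_mul_index (displace M x).ker, Subgroup.index_ker]
  congr 1
  exact Nat.card_congr (Equiv.subtypeEquivRight fun m => (mem_ker_displace M x).symm)

theorem conjNormal_iterate (m : M) (i : ℕ) :
    ((((MulAut.conjNormal x : M ≃* M) : M → M))^[i] m : H) = x ^ i * m * (x ^ i)⁻¹ := by
  induction i with
  | zero => simp
  | succ i hi => rw [iterate_succ_apply', MulAut.conjNormal_apply, hi, pow_succ']; group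

variable {M x} {p : ℕ} [hp : Fact p.Prime]

theorem conjNormal_periodic (hx : x ^ p = 1) :
    (((MulAut.conjNormal x : M ≃* M) : M → M))^[p] = id := by
  funext m
  refine Subtype.ext ?_
  rw [conjNormal_iterate, hx]
  simp

/-- A fixed displacement has order dividing `p`. -/
theorem pow_eq_one_of_fixed (hx : x ^ p = 1) {r : M} (hr : r ∈ (displace M x).range)
    (hfix : x * (r : H) * x⁻¹ = r) : r ^ p = 1 := by
  obtain ⟨m, rfl⟩ := hr
  set d := displace M x m with hd
  have hstep : x * (m : H) * x⁻¹ = d * m := by rw [hd, displace_coe, inv_mul_cancel_right]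
  have key : ∀ i : ℕ, x ^ i * (m : H) * (x ^ i)⁻¹ = (d : H) ^ i * m := by
    intro i
    induction i with
    | zero => simp
    | succ i hi =>
      have hdi : x * (d : H) ^ i * x⁻¹ = (d : H) ^ i := by rw [← conj_pow, hfix]
      calc x ^ (i + 1) * (m : H) * (x ^ (i + 1))⁻¹
          = x * (x ^ i * m * (x ^ i)⁻¹) * x⁻¹ := by rw [pow_succ']; group
        _ = (x * (d : H) ^ i * x⁻¹) * (x * m * x⁻¹) := by rw [hi]; group
        _ = _ := by rw [hdi, hstep, pow_succ, mul_assoc]
  have h1 := key p
  rw [hx, one_mul, inv_one, mul_one, eq_comm, mul_eq_right] at h1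
  exact Subtype.ext (by rw [SubgroupClass.coe_pow, h1]; rfl)

theorem displace_range_invariant {r : M} (hr : r ∈ (displace M x).range) :
    (MulAut.conjNormal x : M ≃* M) r ∈ (displace M x).range := by
  obtain ⟨m, rfl⟩ := hr
  refine ⟨MulAut.conjNormal x m, ?_⟩
  show MulAut.conjNormal x (MulAut.conjNormal x m) * (MulAut.conjNormal x m)⁻¹ = MulAut.conjNormal x (MulAut.conjNormal x m * m⁻¹)
  rw [map_mul, map_inv]

/-- `x` as a map on the displacements. -/
def onRange (r : (displace M x).range) : (displace M x).range :=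
  ⟨(MulAut.conjNormal x : M ≃* M) r, displace_range_invariant r.2⟩

theorem onRange_periodic (hx : x ^ p = 1) : (onRange (M := M) (x := x))^[p] = id := by
  funext r
  have h : ∀ i, (((onRange (M := M) (x := x))^[i] r : (displace M x).range) : M) =
      (((MulAut.conjNormal x : M ≃* M) : M → M))^[i] (r : M) := fun i => by
    induction i with
    | zero => rfl
    | succ i hi => rw [iterate_succ_apply', iterate_succ_apply', ← hi]; rfl
  exact Subtype.ext ((h p).trans (congrFun (conjNormal_periodic hx) _))

variable [Finite H]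

theorem dvd_range_sub_fixed (hx : x ^ p = 1) :
    p ∣ Nat.card (displace M x).range -
      Nat.card {r : (displace M x).range // x * ((r : M) : H) * x⁻¹ = r} := by
  refine (dvd_card_sub_fixed (onRange_periodic (M := M) hx)).trans (dvd_of_eq ?_)
  congr 1
  exact Nat.card_congr (Equiv.subtypeEquivRight fun r => by
    rw [Subtype.ext_iff, Subtype.ext_iff]; rfl)

/-- Few displacements are all fixed. -/
theorem fixed_of_card_le (hx : x ^ p = 1) (h : Nat.card (displace M x).range ≤ p)
    (r : (displace M x).range) : x * ((r : M) : H) * x⁻¹ = r := by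
  have hd := dvd_range_sub_fixed (M := M) hx
  set f := Nat.card {r : (displace M x).range // x * ((r : M) : H) * x⁻¹ = r}
  have hpos : 0 < f := by
    have : Nonempty {r : (displace M x).range // x * ((r : M) : H) * x⁻¹ = r} := ⟨⟨1, by simp⟩⟩
    exact Nat.card_pos
  have hle : f ≤ Nat.card (displace M x).range := Finite.card_subtype_le _
  have heq : f = Nat.card (displace M x).range := by
    have := Nat.eq_zero_of_dvd_of_lt hd (by omega)
    omega
  by_contra hne
  exact absurd heq (Nat.ne_of_lt (Finite.card_subtype_lt (p := fun r : (displace M x).range =>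
    x * ((r : M) : H) * x⁻¹ = r) hne))

/-- If `x` moves `M` then it moves it by at least `p` elements. -/
theorem le_card_range (hx : x ^ p = 1) (hne : ∃ m ∈ M, x * m * x⁻¹ ≠ m) :
    p ≤ Nat.card (displace M x).range := by
  by_contra hlt
  push Not at hlt
  obtain ⟨m, hm, hmne⟩ := hne
  have hr : displace M x ⟨m, hm⟩ ∈ (displace M x).range := ⟨_, rfl⟩
  have hpow := pow_eq_one_of_fixed hx hr (fixed_of_card_le hx hlt.le ⟨_, hr⟩)
  have h1 : (⟨_, hr⟩ : (displace M x).range) ≠ 1 := fun e =>
    hmne ((mem_ker_displace M x).1 (congrArg Subtype.val e))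
  have hord : orderOf (⟨_, hr⟩ : (displace M x).range) = p :=
    orderOf_eq_prime (Subtype.ext hpow) h1
  have := Nat.le_of_dvd Nat.card_pos (hord ▸ orderOf_dvd_natCard (⟨_, hr⟩ : (displace M x).range))
  omega

/-- The fixed points form at most a sixteenth, for `p ≥ 5`, when the number of displacements is a
square in coprime characteristic. -/
theorem sixteen_mul_fixed_le [Group.IsSolvable H] (hp3 : 3 < p) {q : ℕ} [hq : Fact q.Prime]
    (hMq : IsPGroup q M) (hMexp : ∀ m ∈ M, m ^ q = 1)
    (hOp : Cfsg.pCore q (H ⧸ Subgroup.centralizer (M : Set H)) = ⊥) (hx : x ^ p = 1)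
    (hne : ∃ m ∈ M, x * m * x⁻¹ ≠ m)
    (hsq : q ≠ p → ∃ d, Nat.card (displace M x).range = d * d) :
    16 * Nat.card {m : M // x * (m : H) * x⁻¹ = m} ≤ Nat.card M := by
  rw [← card_fixed_mul_card_range M x, mul_comm]
  refine Nat.mul_le_mul_left _ ?_
  have hge := le_card_range hx hne
  by_cases hqp : q = p
  · subst hqp
    obtain ⟨k, hk⟩ := (IsPGroup.iff_card.1 (hMq.to_subgroup (displace M x).range))
    have hnot : Nat.card (displace M x).range ≠ q := by
      intro e
      obtain ⟨m, hm, hmne⟩ := hne
      refine hmne ?_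
      have hcen := CfsgLib.Complement.quadratic_mem_centralizer_of_pCore_eq_bot (p := q)
        (by omega) (fun h => by omega) M hMexp hOp (a := x) fun m hm =>
          fixed_of_card_le hx e.le ⟨displace M x ⟨m, hm⟩, ⟨_, rfl⟩⟩
      exact mul_inv_eq_iff_eq_mul.2 (Subgroup.mem_centralizer_iff.1 hcen m hm).symm
    rcases Nat.lt_or_ge k 2 with hk2 | hk2
    · interval_cases k
      · rw [hk, pow_zero] at hge; omega
      · exact absurd (by rw [hk, pow_one]) hnot
    · rw [hk]
      exact le_trans (le_trans (by norm_num) (Nat.pow_le_pow_left (show 4 ≤ q by omega) 2))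
        (Nat.pow_le_pow_right (by omega) hk2)
  obtain ⟨d, hd⟩ := hsq hqp
  have hone : Nat.card {r : (displace M x).range // x * ((r : M) : H) * x⁻¹ = r} = 1 := by
    rw [Nat.card_eq_one_iff_exists]
    refine ⟨⟨1, by simp⟩, fun r => Subtype.ext ?_⟩
    have h1 := pow_eq_one_of_fixed hx r.1.2 r.2
    obtain ⟨k, hk⟩ := hMq ((r.1 : M))
    refine Subtype.ext (orderOf_eq_one_iff.1 (Nat.eq_one_of_dvd_coprimes
      (((Nat.coprime_primes hp.out hq.out).2 (Ne.symm hqp)).pow_right k)
      (orderOf_dvd_of_pow_eq_one h1) (orderOf_dvd_of_pow_eq_one hk)))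
  have hdvd := dvd_range_sub_fixed (M := M) hx
  rw [hone, hd] at hdvd
  rw [hd] at hge ⊢
  by_contra hlt
  push Not at hlt
  have hd4 : d < 4 := by nlinarith
  have h4 : p ≠ 4 := fun e => by have := hp.out; subst e; norm_num at this
  have h8 : p ≠ 8 := fun e => by have := hp.out; subst e; norm_num at this
  have hp9 : p ≤ 9 := by nlinarith
  interval_cases d <;> interval_cases p <;> omega

end CfsgLib.FixedSpace
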