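import Cfsg.Agent.Lib.FixedSpace.Bound
import Cfsg.Agent.Lib.FixedFree.BaseChange
import Mathlib.FieldTheory.IsAlgClosed.AlgebraicClosure

/-!
# An element of prime order at least five generating a solvable group fixes less than half
-/

set_option autoImplicit false

namespace CfsgLib.FixedSpace

open Module CfsgLib.HallHigman CfsgLib.FixedFree
open scoped TensorProduct

universe u v w

variable {k : Type u} [Field k] {V : Type v} [AddCommGroup V] [Module k V] [FiniteDimensional k V]
  {G : Type w} [Group G] [Finite G]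

omit [Finite G] in
/-- Commuting elements of order the characteristic have a common fixed vector. -/
theorem exists_common_fixed [Nontrivial V] (ρ : Representation k G V) (q : ℕ) [hq : Fact q.Prime]
    [CharP k q] (A : Subgroup G) (hAc : ∀ a ∈ A, ∀ b ∈ A, a * b = b * a)
    (hAe : ∀ a ∈ A, a ^ q = 1) (s : Finset G) (hs : ∀ a ∈ s, a ∈ A) :
    ∃ W : Submodule k V, W ≠ ⊥ ∧ (∀ a ∈ s, ∀ w ∈ W, ρ a w = w) ∧
      ∀ a ∈ A, ∀ w ∈ W, ρ a w ∈ W := by
  classical
  induction s using Finset.induction with
  | empty => exact ⟨⊤, top_ne_bot, by simp, fun _ _ _ _ => Submodule.mem_top⟩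
  | insert b s hb ih =>
    obtain ⟨W, hW, hfix, hinv⟩ := ih fun a ha => hs a (Finset.mem_insert_of_mem ha)
    have hbA := hs b (Finset.mem_insert_self b s)
    have : Nontrivial W := Submodule.nontrivial_iff_ne_bot.2 hW
    have : CharP (Module.End k W) q := charP_of_injective_algebraMap (algebraMap k _).injective q
    set f := (ρ b).restrict (hinv b hbA) with hf
    have hfq : f ^ q = 1 := by
      refine LinearMap.ext fun w => Subtype.ext ?_
      rw [hf, Module.End.pow_restrict, LinearMap.coe_restrict_apply, ← map_pow, hAe b hbA, map_one]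
      rfl
    have hnil : (f - 1) ^ q = 0 := by
      rw [sub_pow_char_of_commute _ (Commute.one_right f), one_pow, hfq, sub_self]
    have hker : LinearMap.ker (f - 1) ≠ ⊥ := fun e => by
      have hinj : Function.Injective (⇑((f - 1) ^ q) : W → W) := by
        rw [Module.End.coe_pow]
        exact (LinearMap.ker_eq_bot.1 e).iterate q
      rw [hnil] at hinj
      obtain ⟨w, hw⟩ := exists_ne (0 : W)
      exact hw (hinj (by simp))
    refine ⟨(LinearMap.ker (f - 1)).map W.subtype, fun e => hker (eq_bot_of_map_subtype e), ?_, ?_⟩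
    · rintro a ha _ ⟨w, hw, rfl⟩
      rcases Finset.mem_insert.1 ha with rfl | ha
      · rw [SetLike.mem_coe, LinearMap.mem_ker, LinearMap.sub_apply, Module.End.one_apply,
          sub_eq_zero] at hw
        exact congrArg Subtype.val hw
      · exact hfix a ha w w.2
    · rintro a ha _ ⟨w, hw, rfl⟩
      refine ⟨⟨ρ a w, hinv a ha w w.2⟩, ?_, rfl⟩
      rw [SetLike.mem_coe, LinearMap.mem_ker, LinearMap.sub_apply, Module.End.one_apply,
        sub_eq_zero] at hw ⊢
      refine Subtype.ext ?_
      show ρ b (ρ a w) = ρ a w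
      rw [← rep_self_mul_apply, hAc b hbA a ha, rep_self_mul_apply]
      exact congrArg (ρ a) (congrArg Subtype.val hw)

/-- An element of prime order at least five whose conjugates generate a solvable group fixes less
than half of any faithful irreducible module. -/
theorem two_mul_fixed_lt [Group.IsSolvable G] [Nontrivial V] {p : ℕ} [hp : Fact p.Prime]
    (hp3 : 3 < p) (ρ : Representation k G V) (hinj : Function.Injective ρ)
    (hirr : ∀ W : Submodule k V, (∀ g, ∀ w ∈ W, ρ g w ∈ W) → W = ⊥ ∨ W = ⊤) {x : G}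
    (hx : x ^ p = 1) (hx1 : x ≠ 1) (hgen : Subgroup.normalClosure ({x} : Set G) = ⊤) :
    2 * finrank k (LinearMap.ker (ρ x - 1)) < finrank k V := by
  classical
  have : Nontrivial G := ⟨⟨x, 1, hx1⟩⟩
  obtain ⟨N, hNn, hN1, hNmin⟩ := CfsgLib.Solvable.exists_minimal_normal (G := G)
  have := hNn
  obtain ⟨q, hq, hNq, hNe, hNc⟩ := CfsgLib.Solvable.exists_isPGroup_of_minimal_normal hN1 hNmin
  have : Fact q.Prime := ⟨hq⟩
  have hfix : NoFixed ρ N := by
    intro v hv
    let W : Submodule k V :=
      { carrier := {w | ∀ g ∈ N, ρ g w = w}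
        zero_mem' := fun g _ => map_zero _
        add_mem' := fun {a b} ha hb g hg => by rw [map_add, ha g hg, hb g hg]
        smul_mem' := fun c a ha g hg => by rw [map_smul, ha g hg] }
    rcases hirr W (fun g w hw n hn => by
      rw [← rep_self_mul_apply, show n * g = g * (g⁻¹ * n * g) by group, rep_self_mul_apply,
        hw _ (hNn.conj_mem' n hn g)]) with h | h
    · exact (Submodule.mem_bot k).1 (h ▸ (show v ∈ W from hv))
    · refine absurd ((Subgroup.eq_bot_iff_forall N).2 fun n hn => hinj (LinearMap.ext fun w => ?_)) hN1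
      rw [map_one, Module.End.one_apply]
      exact (h ▸ Submodule.mem_top : w ∈ W) n hn
  have hNk : (Nat.card N : k) ≠ 0 := by
    obtain ⟨j, hj⟩ := IsPGroup.iff_card.1 hNq
    rw [hj, Nat.cast_pow]
    refine pow_ne_zero _ fun e => ?_
    have hch := ringChar.charP k
    have hchar : CharP k q := (CharP.charP_iff_prime_eq_zero hq).2 e
    have : Fintype N := Fintype.ofFinite N
    obtain ⟨W, hW, hWfix, -⟩ := exists_common_fixed ρ q N
      (fun a ha b hb => congrArg Subtype.val (hNc.is_comm.comm ⟨a, ha⟩ ⟨b, hb⟩)) hNe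
      (Finset.univ.image fun n : N => (n : G)) (fun a ha => by
        obtain ⟨n, -, rfl⟩ := Finset.mem_image.1 ha
        exact n.2)
    obtain ⟨w, hw, hw0⟩ := Submodule.exists_mem_ne_zero_of_ne_bot hW
    exact hw0 (hfix w fun g hg =>
      hWfix g (Finset.mem_image.2 ⟨⟨g, hg⟩, Finset.mem_univ _, rfl⟩) w hw)
  let K := AlgebraicClosure k
  have hNK : (Nat.card N : K) ≠ 0 := fun e => hNk ((algebraMap k K).injective (by
    rw [map_natCast, e, map_zero]))
  have hfixK : NoFixed (extend K ρ) N := hfix.extend hNK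
  have : Fintype N := Fintype.ofFinite N
  have hVK : Nontrivial (K ⊗[k] V) := by
    rw [← Module.finrank_pos_iff (R := K), Module.finrank_baseChange]
    exact Module.finrank_pos
  have hmain : 2 * finrank K (LinearMap.ker (extend K ρ x - 1)) < finrank K (K ⊗[k] V) := by
    refine two_mul_fixed_lt_of_factors x
      (fun W _ _ σ => ∀ w : W, ∑ n : N, σ (n : G) w = 0) ?_ ?_ ?_ (extend K ρ) hfixK.sum_eq_zero
    · intro W _ _ σ U hU h w
      refine Subtype.ext ?_
      rw [Submodule.coe_sum]
      exact h w
    · intro W _ _ σ U hU h w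
      obtain ⟨w, rfl⟩ := Submodule.Quotient.mk_surjective U w
      show ∑ n : N, U.mkQ (σ (n : G) w) = 0
      rw [← map_sum, h, map_zero]
    intro W _ _ _ _ σ hP hirrW
    let σ' : Representation K (G ⧸ σ.ker) W := QuotientGroup.lift σ.ker σ le_rfl
    have hσ' : ∀ t, σ' (QuotientGroup.mk' σ.ker t) = σ t := fun t => QuotientGroup.lift_mk' _ _ t
    rw [← hσ']
    refine two_mul_fixed_lt_of_faithful hp3 σ' (fun a b hab => ?_) (fun U hU => ?_)
      (by rw [← map_pow, hx, map_one]) (fun e => ?_) ?_
    · obtain ⟨a, rfl⟩ := QuotientGroup.mk'_surjective σ.ker a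
      obtain ⟨b, rfl⟩ := QuotientGroup.mk'_surjective σ.ker b
      rw [hσ', hσ'] at hab
      exact QuotientGroup.eq.2 (MonoidHom.mem_ker.2 (by
        rw [map_mul, ← hab, ← map_mul, inv_mul_cancel, map_one]))
    · exact hirrW U fun g w hw => by rw [← hσ']; exact hU _ w hw
    · have hxk : x ∈ σ.ker := (QuotientGroup.eq_one_iff x).1 e
      have hk : σ.ker = ⊤ := top_le_iff.1 (hgen ▸
        Subgroup.normalClosure_le_normal (Set.singleton_subset_iff.2 hxk))
      obtain ⟨w, hw⟩ := exists_ne (0 : W)
      have h1 := hP w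
      have h2 : ∀ n : N, σ (n : G) w = w := fun n => by
        rw [MonoidHom.mem_ker.1 (hk ▸ Subgroup.mem_top (n : G) : (n : G) ∈ σ.ker)]; rfl
      simp only [h2, Finset.sum_const, Finset.card_univ, ← Nat.card_eq_fintype_card,
        ← Nat.cast_smul_eq_nsmul K] at h1
      exact hw ((smul_eq_zero.1 h1).resolve_left hNK)
    · have h1 := Subgroup.map_normalClosure ({x} : Set G) (QuotientGroup.mk' σ.ker)
        (QuotientGroup.mk'_surjective _)
      rw [hgen, ← MonoidHom.range_eq_map, QuotientGroup.range_mk', Set.image_singleton] at h1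
      exact h1.symm
  rw [Module.finrank_baseChange] at hmain
  refine lt_of_le_of_lt (Nat.mul_le_mul_left 2 ?_) hmain
  have hbc : extend K ρ x - 1 = (ρ x - 1).baseChange K := by
    rw [LinearMap.baseChange_sub, Module.End.one_eq_id (M := V), LinearMap.baseChange_id,
      ← Module.End.one_eq_id]
    rfl
  have h1 := LinearMap.finrank_range_add_finrank_ker (extend K ρ x - 1)
  have h2 := LinearMap.finrank_range_add_finrank_ker (ρ x - 1)
  have h3 := finrank_range_baseChange_le (K := K) (ρ x - 1)
  rw [← hbc] at h3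
  rw [Module.finrank_baseChange] at h1
  omega

end CfsgLib.FixedSpace
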