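import Mathlib.Algebra.BigOperators.Group.Finset.Basic
import Mathlib.Data.Finite.Card
import Mathlib.Dynamics.PeriodicPts.Defs
import Mathlib.LinearAlgebra.Dimension.Constructions
import Mathlib.LinearAlgebra.FiniteDimensional.Basic
import Mathlib.RepresentationTheory.Basic

/-!
# Fixed vectors of a monomial map of prime period

A map permuting `X` with prime period has at most `(|X| + (p - 1) f) / p` orbits, `f` the number of
fixed points, and this bounds the fixed space of a map permuting summands indexed by `X`.
-/

set_option autoImplicit false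

namespace CfsgLib.FixedSpace

open Function Module

/-- Representatives of the orbits of a map of prime period, counted exactly. -/
theorem exists_orbit_reps {X : Type*} [Finite X] {p : ℕ} [hp : Fact p.Prime] {π : X → X}
    (hπ : π^[p] = id) :
    ∃ T : Finset X, (∀ c, ∃ i : ℕ, ∃ t ∈ T, π^[i] t = c) ∧
      p * T.card + Nat.card {c // π c = c} = Nat.card X + p * Nat.card {c // π c = c} := by
  classical
  have : Fintype X := Fintype.ofFinite X
  have key : ∀ s : Finset X, (∀ c ∈ s, π c ∈ s) →
      ∃ T : Finset X, T ⊆ s ∧ (∀ c ∈ s, ∃ i : ℕ, ∃ t ∈ T, π^[i] t = c) ∧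
        p * T.card + (s.filter fun c => π c = c).card =
          s.card + p * (s.filter fun c => π c = c).card := by
    intro s
    induction s using Finset.strongInduction with
    | _ s ih =>
      intro hs
      by_cases hall : ∀ c ∈ s, π c = c
      · exact ⟨s, subset_rfl, fun c hc => ⟨0, c, hc, rfl⟩, by
          rw [Finset.filter_true_of_mem hall, add_comm]⟩
      push Not at hall
      obtain ⟨t, ht, htne⟩ := hall
      have hper : IsPeriodicPt π p t := congrFun hπ t
      have hmin : minimalPeriod π t = p :=
        (hp.out.eq_one_or_self_of_dvd _ hper.minimalPeriod_dvd).resolve_left fun e =>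
          htne (minimalPeriod_eq_one_iff_isFixedPt.1 e)
      set O := (Finset.range p).image fun i => π^[i] t with hO
      have hOcard : O.card = p := by
        rw [hO, Finset.card_image_of_injOn, Finset.card_range]
        intro i hi j hj hij
        rw [Finset.coe_range, Set.mem_Iio, ← hmin] at hi hj
        exact iterate_injOn_Iio_minimalPeriod hi hj hij
      have hsub : O ⊆ s := by
        intro c hc
        obtain ⟨i, -, rfl⟩ := Finset.mem_image.1 hc
        induction i with
        | zero => exact ht
        | succ i hi => rw [iterate_succ_apply']; exact hs _ (hi (Finset.mem_image.2 ⟨i % p,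
            Finset.mem_range.2 (Nat.mod_lt _ hp.out.pos), hper.iterate_mod_apply i⟩))
      have hmemO : ∀ i, π^[i] t ∈ O := fun i => Finset.mem_image.2 ⟨i % p,
        Finset.mem_range.2 (Nat.mod_lt _ hp.out.pos), hper.iterate_mod_apply i⟩
      have hnf : ∀ c ∈ O, π c ≠ c := by
        intro c hc e
        obtain ⟨i, hi, rfl⟩ := Finset.mem_image.1 hc
        rw [Finset.mem_range] at hi
        have hfix : IsFixedPt π (π^[i] t) := e
        have h1 := (hfix.iterate (p - i)).eq
        rw [← iterate_add_apply, Nat.sub_add_cancel hi.le, hper.eq] at h1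
        exact htne (by rw [h1]; exact e)
      obtain ⟨T, hTs, hcov, hcount⟩ := ih (s \ O)
        (Finset.sdiff_ssubset hsub ⟨t, hmemO 0⟩) fun c hc => by
          rw [Finset.mem_sdiff] at hc ⊢
          refine ⟨hs c hc.1, fun h => hc.2 ?_⟩
          obtain ⟨i, -, hi⟩ := Finset.mem_image.1 h
          have e : c = π^[p - 1] (π c) := by
            rw [← iterate_succ_apply, Nat.succ_eq_add_one, Nat.sub_add_cancel hp.out.one_le, hπ, id]
          rw [e, ← hi, ← iterate_add_apply]
          exact hmemO _
      have htT : t ∉ T := fun h => (Finset.mem_sdiff.1 (hTs h)).2 (hmemO 0)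
      refine ⟨insert t T, Finset.insert_subset ht (hTs.trans Finset.sdiff_subset), fun c hc => ?_, ?_⟩
      · by_cases hcO : c ∈ O
        · obtain ⟨i, -, rfl⟩ := Finset.mem_image.1 hcO
          exact ⟨i, t, Finset.mem_insert_self _ _, rfl⟩
        · obtain ⟨i, t', ht', e⟩ := hcov c (Finset.mem_sdiff.2 ⟨hc, hcO⟩)
          exact ⟨i, t', Finset.mem_insert_of_mem ht', e⟩
      · have hf : (s \ O).filter (fun c => π c = c) = s.filter (fun c => π c = c) := by
          ext c
          simp only [Finset.mem_filter, Finset.mem_sdiff]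
          exact ⟨fun h => ⟨h.1.1, h.2⟩, fun h => ⟨⟨h.1, fun hc => hnf c hc h.2⟩, h.2⟩⟩
        rw [hf] at hcount
        rw [Finset.card_insert_of_notMem htT, Nat.mul_add, mul_one]
        have := Finset.card_sdiff_add_card_eq_card hsub
        omega
  obtain ⟨T, -, hcov, hcount⟩ := key Finset.univ fun c _ => Finset.mem_univ _
  refine ⟨T, fun c => hcov c (Finset.mem_univ c), ?_⟩
  rwa [Nat.card_eq_fintype_card, Nat.card_eq_fintype_card, Fintype.card_subtype, ← Finset.card_univ]

/-- The number of points is congruent to the number of fixed points. -/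
theorem dvd_card_sub_fixed {X : Type*} [Finite X] {p : ℕ} [Fact p.Prime] {π : X → X}
    (hπ : π^[p] = id) : p ∣ Nat.card X - Nat.card {c // π c = c} := by
  obtain ⟨T, -, hT⟩ := exists_orbit_reps hπ
  by_cases h : Nat.card {c // π c = c} ≤ T.card
  · refine ⟨T.card - Nat.card {c // π c = c}, ?_⟩
    rw [Nat.mul_sub]
    omega
  · have := Nat.mul_le_mul_left p (le_of_lt (not_le.1 h))
    exact ⟨0, by omega⟩

/-- The fixed space of a monomial map. -/
theorem mul_finrank_fixed_le {K V U : Type*} [Field K] [AddCommGroup V] [Module K V]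
    [AddCommGroup U] [Module K U] [FiniteDimensional K U] {X : Type*} [Finite X] {p : ℕ}
    [Fact p.Prime] {π : X → X} (hπ : π^[p] = id) (Φ : (X → U) ≃ₗ[K] V) (f : Module.End K V)
    (h : X → Module.End K U) (hf : ∀ F c, Φ.symm (f (Φ F)) (π c) = h c (F c)) :
    p * finrank K (LinearMap.ker (f - 1)) + Nat.card {c // π c = c} * finrank K U ≤
      (Nat.card X + p * Nat.card {c // π c = c}) * finrank K U := by
  obtain ⟨T, hcov, hcount⟩ := exists_orbit_reps hπ
  let L : LinearMap.ker (f - 1) →ₗ[K] (T → U) :=
    (LinearMap.funLeft K U (Subtype.val : T → X)) ∘ₗ Φ.symm.toLinearMap ∘ₗ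
      (LinearMap.ker (f - 1)).subtype
  have hL : Injective L := by
    refine (injective_iff_map_eq_zero L).2 fun v hv => Subtype.ext (Φ.symm.injective ?_)
    have hfix : f v = v := by
      have := LinearMap.mem_ker.1 v.2
      rwa [LinearMap.sub_apply, Module.End.one_apply, sub_eq_zero] at this
    set F := Φ.symm (v : V) with hF
    have hΦ : Φ F = v := Φ.apply_symm_apply _
    have hstep : ∀ c, F (π c) = h c (F c) := fun c => by rw [← hf, hΦ, hfix]
    have hT : ∀ t ∈ T, F t = 0 := fun t ht => congrFun hv ⟨t, ht⟩
    rw [show Φ.symm ((0 : LinearMap.ker (f - 1)) : V) = 0 from map_zero _]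
    funext c
    obtain ⟨i, t, ht, rfl⟩ := hcov c
    induction i with
    | zero => exact hT t ht
    | succ i hi => simp only [iterate_succ_apply', hstep, hi, Pi.zero_apply, map_zero]
  have hle := LinearMap.finrank_le_finrank_of_injective hL
  rw [Module.finrank_pi_fintype, Finset.sum_const, Finset.card_univ, Fintype.card_coe,
    smul_eq_mul] at hle
  have h2 := Nat.mul_le_mul_left p hle
  rw [← mul_assoc] at h2
  rw [← hcount, add_mul]
  omega

/-- Fixed spaces are subadditive along an invariant subspace. -/
theorem finrank_fixed_le_add {K V : Type*} [Field K] [AddCommGroup V] [Module K V]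
    [FiniteDimensional K V] (f : Module.End K V) (W : Submodule K V) (hW : ∀ w ∈ W, f w ∈ W)
    (hQ : W ≤ W.comap f) :
    finrank K (LinearMap.ker (f - 1)) ≤ finrank K (LinearMap.ker (f.restrict hW - 1)) +
      finrank K (LinearMap.ker (W.mapQ W f hQ - 1)) := by
  set C := LinearMap.ker (f - 1) with hC
  let L : C →ₗ[K] V ⧸ W := W.mkQ ∘ₗ C.subtype
  have h1 : finrank K (LinearMap.range L) ≤ finrank K (LinearMap.ker (W.mapQ W f hQ - 1)) := by
    refine Submodule.finrank_mono ?_
    rintro _ ⟨v, rfl⟩
    have := v.2
    rw [LinearMap.mem_ker, LinearMap.sub_apply, Module.End.one_apply, sub_eq_zero] at this ⊢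
    show W.mapQ W f hQ (W.mkQ v) = W.mkQ v
    rw [Submodule.mkQ_apply, Submodule.mapQ_apply, this]
  have h2 : finrank K (LinearMap.ker L) ≤ finrank K (LinearMap.ker (f.restrict hW - 1)) := by
    have hmem : ∀ v : LinearMap.ker L, ((v : C) : V) ∈ W := fun v =>
      (Submodule.Quotient.mk_eq_zero W).1 (LinearMap.mem_ker.1 v.2)
    let L' : LinearMap.ker L →ₗ[K] LinearMap.ker (f.restrict hW - 1) :=
      { toFun := fun v => ⟨⟨_, hmem v⟩, by
          have := v.1.2
          rw [LinearMap.mem_ker, LinearMap.sub_apply, Module.End.one_apply, sub_eq_zero] at this ⊢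
          exact Subtype.ext this⟩
        map_add' := fun _ _ => rfl
        map_smul' := fun _ _ => rfl }
    exact LinearMap.finrank_le_finrank_of_injective (f := L') fun a b hab =>
      Subtype.ext (Subtype.ext (congrArg (fun z => ((z.1 : W) : V)) hab))
  have h3 := LinearMap.finrank_range_add_finrank_ker L
  omega

end CfsgLib.FixedSpace
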