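import Cfsg.Agent.Lib.FixedSpace.Index
import Cfsg.Agent.Lib.Solvable.PrimitiveSolvable

/-!
# The proportion of cosets fixed by an element of prime order in a solvable group
-/

set_option autoImplicit false

namespace CfsgLib.FixedSpace

open Subgroup Function

universe u

variable {G : Type u} [Group G] [Finite G] {p : ℕ} [hp : Fact p.Prime] {x : G}

/-- On the cosets of a core-free maximal subgroup at most a fifth is fixed, for `p ≥ 5`. -/
theorem five_mul_fixed_coset_le_of_coreFree [Group.IsSolvable G] (hp3 : 3 < p) (hx : x ^ p = 1)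
    (hx1 : x ≠ 1) {U : Subgroup G} (hU : IsCoatom U) (hcore : U.normalCore = ⊥) :
    5 * Nat.card {c : G ⧸ U // x • c = c} ≤ U.index := by
  rcases isEmpty_or_nonempty {c : G ⧸ U // x • c = c} with h | ⟨⟨c, hc⟩⟩
  · rw [Nat.card_eq_zero.2 (Or.inl h)]; exact Nat.zero_le _
  obtain ⟨g, rfl⟩ := QuotientGroup.mk_surjective c
  set y := g⁻¹ * x * g with hy
  have hyU : y ∈ U := by
    have h1 : ((x * g : G) : G ⧸ U) = (g : G ⧸ U) := hc
    rw [QuotientGroup.eq] at h1
    have h2 := inv_mem h1
    rw [hy]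
    convert h2 using 1
    group
  have hy1 : y ≠ 1 := fun e => hx1 (by
    have h2 : x = g * y * g⁻¹ := by rw [hy]; group
    rw [h2, e]; group)
  have : Nontrivial G := ⟨⟨x, 1, hx1⟩⟩
  obtain ⟨N, hNn, hN1, hNmin⟩ := CfsgLib.Solvable.exists_minimal_normal (G := G)
  have := hNn
  have := CfsgLib.Solvable.isMulCommutative_of_minimal_normal hN1 hNmin
  have hcompl := CfsgLib.Solvable.isComplement'_of_abelian_coreFree hU hcore hN1
  have hinj : Injective fun n : N => (((g * n : G)) : G ⧸ U) := by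
    intro a b hab
    rw [QuotientGroup.eq] at hab
    have h1 : ((a⁻¹ * b : N) : G) ∈ U := by
      push_cast
      convert hab using 1
      group
    have h2 : ((a⁻¹ * b : N) : G) ∈ N ⊓ U := ⟨SetLike.coe_mem _, h1⟩
    rw [hcompl.disjoint.eq_bot, Subgroup.mem_bot] at h2
    exact inv_mul_eq_one.1 (Subtype.ext h2)
  have hbij : Bijective fun n : N => (((g * n : G)) : G ⧸ U) := by
    rw [Nat.bijective_iff_injective_and_card]
    refine ⟨hinj, ?_⟩
    show Nat.card N = U.index
    exact hcompl.index_eq_card.symm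
  have hfix : ∀ n : N, x • (((g * n : G)) : G ⧸ U) = ((g * n : G) : G ⧸ U) ↔ y * (n : G) * y⁻¹ = n := by
    intro n
    have e1 : x • (((g * n : G)) : G ⧸ U) =
        (((g * ((MulAut.conjNormal y n : N) : G) : G)) : G ⧸ U) := by
      show ((x * (g * n) : G) : G ⧸ U) = _
      rw [QuotientGroup.eq, MulAut.conjNormal_apply]
      convert inv_mem hyU using 1
      rw [hy]; group
    rw [e1]
    refine ⟨fun h => ?_, fun h => by rw [MulAut.conjNormal_apply, h]⟩
    have := congrArg Subtype.val (hinj h)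
    rwa [MulAut.conjNormal_apply] at this
  have hmov : ∃ n ∈ N, y * n * y⁻¹ ≠ n := by
    by_contra hcon
    push Not at hcon
    have h1 : y ∈ centralizer (N : Set G) ⊓ U :=
      ⟨Subgroup.mem_centralizer_iff.2 fun n hn => (mul_inv_eq_iff_eq_mul.1 (hcon n hn)).symm, hyU⟩
    rw [CfsgLib.Solvable.centralizer_inf_eq_bot hU hcore hN1, Subgroup.mem_bot] at h1
    exact hy1 h1
  have hyp : y ^ p = 1 := by
    rw [hy, show g⁻¹ * x * g = MulAut.conj g⁻¹ x by simp, ← map_pow, hx, map_one]
  have hle := le_card_range (M := N) hyp hmov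
  have hcard := card_fixed_mul_card_range N y
  have heq : Nat.card {n : N // y * (n : G) * y⁻¹ = n} = Nat.card {c : G ⧸ U // x • c = c} :=
    Nat.card_congr ((Equiv.ofBijective _ hbij).subtypeEquiv fun n => (hfix n).symm)
  rw [← hcompl.index_eq_card] at hcard
  rw [heq] at hcard
  rw [← hcard, mul_comm 5]
  have hp4 : p ≠ 4 := fun e => by have := hp.out; subst e; norm_num at this
  exact Nat.mul_le_mul_left _ (by omega)

/-- If the conjugates of `x` generate, at most a fifth of the cosets of any proper subgroup is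
fixed. -/
theorem five_mul_fixed_coset_le [Group.IsSolvable G] (hp3 : 3 < p) (hx : x ^ p = 1)
    (hgen : Subgroup.normalClosure ({x} : Set G) = ⊤) {S : Subgroup G} (hS : S ≠ ⊤) :
    5 * Nat.card {c : G ⧸ S // x • c = c} ≤ S.index := by
  classical
  obtain ⟨M, hM, hSM⟩ := (eq_top_or_exists_le_coatom S).resolve_left hS
  set π := QuotientGroup.mk' M.normalCore with hπ
  set U := M.map π with hU
  have hcom : U.comap π = M := by
    rw [hU, Subgroup.comap_map_eq, QuotientGroup.ker_mk', sup_eq_left]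
    exact M.normalCore_le
  have hUne : U ≠ ⊤ := fun e => hM.1 (by rw [← hcom, e, Subgroup.comap_top])
  have hUco : IsCoatom U := ⟨hUne, fun B hB => by
    have h1 : M < B.comap π := by
      exact lt_of_eq_of_lt hcom.symm
        ((Subgroup.comap_lt_comap_of_surjective (QuotientGroup.mk'_surjective _)).2 hB)
    have h2 := hM.2 _ h1
    rw [eq_top_iff]
    intro b _
    obtain ⟨b, rfl⟩ := QuotientGroup.mk'_surjective M.normalCore b
    exact (h2 ▸ Subgroup.mem_top b : b ∈ B.comap π)⟩
  have hUcore : U.normalCore = ⊥ := by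
    rw [eq_bot_iff]
    intro b hb
    obtain ⟨b, rfl⟩ := QuotientGroup.mk'_surjective M.normalCore b
    have h1 : U.normalCore.comap π ≤ M.normalCore :=
      Subgroup.normal_le_normalCore.2 ((Subgroup.comap_mono U.normalCore_le).trans hcom.le)
    exact Subgroup.mem_bot.2 ((QuotientGroup.eq_one_iff _).2 (h1 hb))
  have hx1 : π x ≠ 1 := fun e => by
    have h1 : x ∈ M.normalCore := (QuotientGroup.eq_one_iff x).1 e
    have h2 : Subgroup.normalClosure ({x} : Set G) ≤ M.normalCore :=
      Subgroup.normalClosure_le_normal (Set.singleton_subset_iff.2 h1)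
    exact hM.1 (eq_top_iff.2 (hgen ▸ h2.trans M.normalCore_le))
  have hbase := five_mul_fixed_coset_le_of_coreFree hp3 (x := π x)
    (by rw [← map_pow, hx, map_one]) hx1 hUco hUcore
  let φ : G ⧸ S → (G ⧸ M.normalCore) ⧸ U := Quotient.map' π fun a b h => by
    rw [QuotientGroup.leftRel_apply] at h ⊢
    rw [← map_inv, ← map_mul]
    exact Subgroup.mem_map_of_mem π (hSM h)
  have hφ : ∀ (g : G) (c : G ⧸ S), φ (g • c) = π g • φ c := by
    intro g c
    obtain ⟨a, rfl⟩ := QuotientGroup.mk_surjective c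
    show ((π (g * a) : G ⧸ M.normalCore) : (G ⧸ M.normalCore) ⧸ U) = ((π g * π a : G ⧸ M.normalCore) : _)
    rw [map_mul]
  have hfib : ∀ d, Nat.card {c // φ c = d} = Nat.card {c // φ c = φ ((1 : G) : G ⧸ S)} := by
    intro d
    obtain ⟨d, rfl⟩ := QuotientGroup.mk_surjective d
    obtain ⟨a, rfl⟩ := QuotientGroup.mk'_surjective M.normalCore d
    refine Nat.card_congr ((MulAction.toPerm a⁻¹).subtypeEquiv fun c => ?_)
    have hone : φ ((1 : G) : G ⧸ S) = ((π 1 : G ⧸ M.normalCore) : (G ⧸ M.normalCore) ⧸ U) := rfl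
    rw [MulAction.toPerm_apply, hφ, hone, map_inv, inv_smul_eq_iff, map_one]
    show _ ↔ φ c = ((π a * 1 : G ⧸ M.normalCore) : (G ⧸ M.normalCore) ⧸ U)
    rw [mul_one]
  set k := Nat.card {c // φ c = φ ((1 : G) : G ⧸ S)}
  have := Fintype.ofFinite ((G ⧸ M.normalCore) ⧸ U)
  have hm : S.index = U.index * k := by
    show Nat.card (G ⧸ S) = _
    rw [← Nat.card_congr (Equiv.sigmaFiberEquiv φ), Nat.card_sigma,
      Finset.sum_congr rfl (fun d _ => hfib d), Finset.sum_const, Finset.card_univ, smul_eq_mul,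
      ← Nat.card_eq_fintype_card]
    rfl
  have hf : Nat.card {c : G ⧸ S // x • c = c} ≤ Nat.card {d : (G ⧸ M.normalCore) ⧸ U // π x • d = d} * k := by
    have := Fintype.ofFinite {d : (G ⧸ M.normalCore) ⧸ U // π x • d = d}
    let L : {c : G ⧸ S // x • c = c} →
        Σ d : {d : (G ⧸ M.normalCore) ⧸ U // π x • d = d}, {c // φ c = d.1} :=
      fun c => ⟨⟨φ c.1, by rw [← hφ, c.2]⟩, ⟨c.1, rfl⟩⟩
    refine (Nat.card_le_card_of_injective L fun a b hab => ?_).trans (le_of_eq ?_)
    · exact Subtype.ext (congrArg (fun z => (z.2.1 : G ⧸ S)) hab)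
    · rw [Nat.card_sigma, Finset.sum_congr rfl (fun d _ => hfib d.1), Finset.sum_const,
        Finset.card_univ, smul_eq_mul, ← Nat.card_eq_fintype_card]
  calc 5 * Nat.card {c : G ⧸ S // x • c = c}
      ≤ 5 * (Nat.card {d : (G ⧸ M.normalCore) ⧸ U // π x • d = d} * k) := Nat.mul_le_mul_left _ hf
    _ ≤ U.index * k := by rw [← mul_assoc]; exact Nat.mul_le_mul_right _ hbase
    _ = S.index := hm.symm

end CfsgLib.FixedSpace
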